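import Groth.Agent.HilbZeta12.Series
import Mathlib.AlgebraicGeometry.Morphisms.IsIso

/-!
The generating series with finitely many closed points split off.
-/

set_option autoImplicit false
set_option linter.style.haveILetI false
set_option backward.isDefEq.respectTransparency false
set_option backward.isDefEq.respectTransparency.types false
set_option maxHeartbeats 1600000

universe u

open CategoryTheory CategoryTheory.Limits AlgebraicGeometry

namespace Groth.Agent.HilbZeta12

variable {k : Type u} [Field k] {X : Scheme.{u}} {f : X ⟶ Spec (CommRingCat.of k)}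

theorem isOpen_inFibre {T : Over (Spec (CommRingCat.of k))} {d : ℕ} (Z : HilbD.Obj f d T) {O : Set X}
    (hO : IsOpen O) : IsOpen {t : T.left | InFibre f O Z.1 t} := by
  obtain ⟨⟨h1, -, -⟩, -⟩ := Z.2
  haveI := h1
  have : {t : T.left | InFibre f O Z.1 t} = (toT f Z.1 '' (toX f Z.1 ⁻¹' O)ᶜ)ᶜ := by
    ext t
    simp only [Set.mem_setOf_eq, Set.mem_compl_iff, Set.mem_image, not_exists, not_and, InFibre,
      Set.mem_preimage]
    exact ⟨fun h z hz e => hz (h z e), fun h z e => by_contra fun hz => h z hz e⟩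
  rw [this]
  exact ((toT f Z.1).isClosedMap _ (hO.preimage (toX f Z.1).continuous).isClosed_compl).isOpen_compl

theorem series_points (H : ℕ → Over (Spec (CommRingCat.of k))) (Z : ∀ d, HilbD.Obj f d (H d))
    (hZ : ∀ d, HilbD.IsUniversal f d (H d) (Z d))
    [∀ d, LocallyOfFiniteType (H d).hom] [∀ d, QuasiCompact (H d).hom]
    {ι : Type*} (p : ι → X) (hp : Function.Injective p) (hpc : ∀ i, IsClosed ({p i} : Set X))
    (HP : ι → ℕ → Scheme.{u}) (j : ∀ i d, HP i d ⟶ (H d).left) [∀ i d, IsClosedImmersion (j i d)]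
    (hj : ∀ i d, Set.range (j i d) = {h | InFibre f {p i} (Z d).1 h})
    (s : Finset ι) (HU : ℕ → Scheme.{u}) (jU : ∀ d, HU d ⟶ (H d).left) [∀ d, IsOpenImmersion (jU d)]
    [∀ d, QuasiCompact (jU d)] (hU : ∀ d, Set.range (jU d) = {h | InFibre f (p '' s)ᶜ (Z d).1 h}) :
    PowerSeries.mk (fun d => K0Var.cl (H d).hom) =
      PowerSeries.mk (fun d => K0Var.cl (jU d ≫ (H d).hom)) *
        ∏ i ∈ s, PowerSeries.mk (fun d => K0Var.cl (j i d ≫ (H d).hom)) := by
  classical
  haveI : ∀ d, IsLocallyNoetherian (H d).left := fun d => LocallyOfFiniteType.isLocallyNoetherian (H d).hom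
  induction s using Finset.induction generalizing HU jU with
  | empty =>
    rw [Finset.prod_empty, mul_one]
    congr 1
    funext d
    haveI : Surjective (jU d) := ⟨by
      rw [← Set.range_eq_univ, hU d]
      simp [InFibre]⟩
    haveI : IsIso (jU d) := (isIso_iff_isOpenImmersion_and_surjective _).2 ⟨inferInstance, inferInstance⟩
    exact (K0Var.cl_congr _ _ (asIso (jU d)) (by simp)).symm
  | insert a t hat ih =>
    have hO : IsOpen ((p '' (t : Set ι))ᶜ) := by
      rw [isOpen_compl_iff, ← Set.biUnion_of_singleton (p '' (t : Set ι))]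
      exact (t.finite_toSet.image p).isClosed_biUnion fun x hx => by
        obtain ⟨i, -, rfl⟩ := hx; exact hpc i
    let O : ∀ d, (H d).left.Opens := fun d => ⟨_, isOpen_inFibre (Z d) hO⟩
    have hOr : ∀ d, Set.range (O d).ι = {h | InFibre f (p '' t)ᶜ (Z d).1 h} := fun d =>
      Scheme.Opens.range_ι _
    haveI : ∀ d, QuasiCompact (O d).ι := fun d => inferInstance
    rw [ih (fun d => (O d).toScheme) (fun d => (O d).ι) hOr, Finset.prod_insert hat, ← mul_assoc]
    congr 1
    refine series_eq H Z hZ ((p '' (t : Set ι))ᶜ) {p a} (hpc a) _ HU (HP a) (fun d => (O d).ι) jU (j a)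
      hOr (fun d => ?_) (fun d => ?_)
    · rw [hU d]
      congr 1
      ext h
      have : (p '' ((insert a t : Finset ι) : Set ι))ᶜ = (p '' (t : Set ι))ᶜ ∩ {p a}ᶜ := by
        ext x; simp [Set.image_insert_eq]; tauto
      rw [this]
    · rw [hj a d]
      congr 1
      ext h
      have : ({p a} : Set X) = (p '' (t : Set ι))ᶜ ∩ {p a} := by
        refine (Set.inter_eq_right.2 ?_).symm
        rintro _ rfl ⟨i, hi, e⟩
        exact hat (hp e ▸ hi)
      conv_lhs => rw [this]

end Groth.Agent.HilbZeta12
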