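import Groth.Agent.HilbZeta12.Union
import Mathlib.AlgebraicGeometry.Morphisms.QuasiFinite
import Mathlib.AlgebraicGeometry.Morphisms.UniversallyOpen
import Mathlib.RingTheory.PowerSeries.Basic

/-!
Splitting the generating series of the Hilbert schemes of points along a closed subset.
-/

set_option autoImplicit false
set_option linter.style.haveILetI false
set_option backward.isDefEq.respectTransparency false
set_option backward.isDefEq.respectTransparency.types false

universe u

set_option maxHeartbeats 3200000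

open CategoryTheory CategoryTheory.Limits AlgebraicGeometry

namespace Groth.Agent.HilbZeta12

open Groth.Agent.Grass5.Hilb

theorem eq_of_specializes_finite {Z V : Scheme.{u}} (p : Z ⟶ V) [IsFinite p] {a b : Z} (h : a ⤳ b)
    (e : p a = p b) : a = b := by
  haveI : DiscreteTopology ↥(p ⁻¹' {p b}) := (p.isDiscrete_preimage_singleton (p b)).to_subtype
  have := specializes_iff_eq.1 ((subtype_specializes_iff (⟨a, e⟩ : p ⁻¹' {p b}) ⟨b, rfl⟩).2 h)
  exact congrArg Subtype.val this

/-- An open subset of a finite flat cover of an integral scheme is closed over a nonempty open. -/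
theorem exists_open_isClosed_inter {Z V : Scheme.{u}} (p : Z ⟶ V) [IsFinite p] [Flat p] [IsIntegral V]
    {O : Set Z} (hO : IsOpen O) :
    ∃ U : V.Opens, (U : Set V).Nonempty ∧ ∃ E : Set Z, IsClosed E ∧ p ⁻¹' U ∩ O = p ⁻¹' U ∩ E := by
  let η := genericPoint V
  let W : Set Z := p ⁻¹' {η} ∩ O
  have hW : W.Finite := (p.finite_preimage_singleton η).subset Set.inter_subset_left
  let E : Set Z := ⋃ w ∈ W, closure {w}
  have hE : IsClosed E := hW.isClosed_biUnion fun _ _ => isClosed_closure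
  have hBc : IsClosed (p '' (E ∩ Oᶜ)) := p.isClosedMap _ (hE.inter hO.isClosed_compl)
  let U : V.Opens := ⟨(p '' (E ∩ Oᶜ))ᶜ, hBc.isOpen_compl⟩
  refine ⟨U, ⟨η, ?_⟩, E, hE, Set.ext fun z => ⟨fun hz => ⟨hz.1, ?_⟩, fun hz => ⟨hz.1, ?_⟩⟩⟩
  · rintro ⟨z, ⟨hzE, hzO⟩, hz⟩
    obtain ⟨w, hw, hwz⟩ := Set.mem_iUnion₂.1 hzE
    have : w = z := eq_of_specializes_finite p (specializes_iff_mem_closure.2 hwz) (hw.1.trans hz.symm)
    exact hzO (this ▸ hw.2)
  · obtain ⟨w, hwz, hw⟩ := (Flat.generalizingMap p) (genericPoint_specializes (p z) : η ⤳ p z)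
    exact Set.mem_iUnion₂.2 ⟨w, ⟨hw, hwz.mem_open hO hz.2⟩, specializes_iff_mem_closure.1 hwz⟩
  · by_contra h
    exact hz.1 ⟨z, ⟨hz.2, h⟩, rfl⟩

variable {k : Type u} [Field k] {X : Scheme.{u}} {f : X ⟶ Spec (CommRingCat.of k)}

/-- a subscheme with the same points has the same class -/
theorem cl_eq_of_surjective {A B : Scheme.{u}} (b : B ⟶ Spec (CommRingCat.of k)) [LocallyOfFiniteType b]
    [QuasiCompact b] (i : A ⟶ B) [IsClosedImmersion i] [Surjective i] :
    K0Var.cl b = K0Var.cl (i ≫ b) := by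
  have hr : Set.range i = (Set.range (Scheme.emptyTo B))ᶜ := by
    rw [i.surjective.range_eq, Set.range_eq_empty (Scheme.emptyTo B)]; simp
  have h0 : K0Var.cl (Scheme.emptyTo B ≫ b) = 0 := by
    rw [K0Var.cl_eq_gen_cl, K0Var.Gen.cl_eq_zero_of_isEmpty]
  rw [K0Var.cl_scissor b i (Scheme.emptyTo B) hr, h0, add_zero]

theorem eq_of_isUniversal {d : ℕ} {H : Over (Spec (CommRingCat.of k))} {Z : HilbD.Obj f d H}
    (hZ : HilbD.IsUniversal f d H Z) {T : Over (Spec (CommRingCat.of k))} (g g' : T ⟶ H)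
    (h : HilbD.pull f g Z.1 = HilbD.pull f g' Z.1) : g = g' :=
  (hZ T (objPull g Z)).unique rfl h.symm

theorem series_eq (H : ℕ → Over (Spec (CommRingCat.of k))) (Z : ∀ d, HilbD.Obj f d (H d))
    (hZ : ∀ d, HilbD.IsUniversal f d (H d) (Z d))
    [∀ d, LocallyOfFiniteType (H d).hom] [∀ d, QuasiCompact (H d).hom]
    (A Y : Set X) (hY : IsClosed Y) (HA HB HC : ℕ → Scheme.{u})
    (jA : ∀ d, HA d ⟶ (H d).left) (jB : ∀ d, HB d ⟶ (H d).left) (jC : ∀ d, HC d ⟶ (H d).left)
    [∀ d, IsImmersion (jA d)] [∀ d, IsImmersion (jB d)] [∀ d, IsImmersion (jC d)]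
    [∀ d, LocallyOfFiniteType (jA d)] [∀ d, LocallyOfFiniteType (jB d)] [∀ d, LocallyOfFiniteType (jC d)]
    [∀ d, QuasiCompact (jA d)] [∀ d, QuasiCompact (jB d)] [∀ d, QuasiCompact (jC d)]
    (hA : ∀ d, Set.range (jA d) = {h | InFibre f A (Z d).1 h})
    (hB : ∀ d, Set.range (jB d) = {h | InFibre f (A ∩ Yᶜ) (Z d).1 h})
    (hC : ∀ d, Set.range (jC d) = {h | InFibre f (A ∩ Y) (Z d).1 h}) :
    PowerSeries.mk (fun d => K0Var.cl (jA d ≫ (H d).hom)) =
      PowerSeries.mk (fun d => K0Var.cl (jB d ≫ (H d).hom)) *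
        PowerSeries.mk (fun d => K0Var.cl (jC d ≫ (H d).hom)) := by
  classical
  ext d
  rw [PowerSeries.coeff_mul, PowerSeries.coeff_mk, ← Finset.sum_attach]
  simp only [PowerSeries.coeff_mk]
  let α := {p : ℕ × ℕ // p ∈ Finset.HasAntidiagonal.antidiagonal d}
  let hd := fun m => (H m).hom
  -- the product families
  let TW : α → Over (Spec (CommRingCat.of k)) := fun p =>
    Over.mk (pullback.fst (jB p.1.1 ≫ hd _) (jC p.1.2 ≫ hd _) ≫ jB p.1.1 ≫ hd p.1.1)
  let gB : ∀ p : α, TW p ⟶ H p.1.1 := fun p => Over.homMk (pullback.fst _ _ ≫ jB p.1.1) (by simp [TW, hd])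
  let gC : ∀ p : α, TW p ⟶ H p.1.2 := fun p =>
    Over.homMk (pullback.snd _ _ ≫ jC p.1.2) (by simp [TW, hd, pullback.condition])
  have wB : ∀ p : α, Within f Yᶜ (HilbD.pull f (gB p) (Z p.1.1).1) := fun p =>
    (within_pull_iff f _ _).2 fun t z hz =>
      ((hB p.1.1).le (Set.mem_range_self ((pullback.fst _ _ : (TW p).left ⟶ _) t)) z
        (by rw [hz]; simp [gB]; rfl)).2
  have wC : ∀ p : α, Within f Yᶜᶜ (HilbD.pull f (gC p) (Z p.1.2).1) := fun p =>
    (within_pull_iff f _ _).2 fun t z hz => by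
      rw [compl_compl]
      exact ((hC p.1.2).le (Set.mem_range_self ((pullback.snd _ _ : (TW p).left ⟶ _) t)) z
        (by rw [hz]; simp [gC]; rfl)).2
  let ZW : ∀ p : α, HilbD.Obj f d (TW p) := fun p =>
    ⟨union f (HilbD.pull f (gB p) (Z p.1.1).1) (HilbD.pull f (gC p) (Z p.1.2).1), by
      have := finLocFreeOfDeg_union f (wB p) (wC p) (objPull (gB p) (Z p.1.1)).2 (objPull (gC p) (Z p.1.2)).2
      rwa [Finset.HasAntidiagonal.mem_antidiagonal.1 p.2] at this⟩
  have hμe : ∀ p : α, ∃ g : TW p ⟶ H d, HilbD.pull f g (Z d).1 = (ZW p).1 :=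
    fun p => (hZ d (TW p) (ZW p)).exists
  choose μ hμ using hμe
  have hμA : ∀ p : α, Within f A (ZW p).1 := by
    intro p z
    obtain ⟨⟨a, -, ha, hra⟩, ⟨b, -, hb, hrb⟩⟩ := isPiece_union f (wB p) (wC p)
    by_cases hz : toX f (ZW p).1 z ∈ Yᶜ
    · obtain ⟨w, rfl⟩ := hra.ge hz
      have : Within f (A ∩ Yᶜ) (HilbD.pull f (gB p) (Z p.1.1).1) :=
        (within_pull_iff f _ _).2 fun t => (hB p.1.1).le ⟨(pullback.fst _ _ : (TW p).left ⟶ _) t, by simp [gB]; rfl⟩
      have h' := (this w).1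
      rw [show toX f (HilbD.pull f (gB p) (Z p.1.1).1) = a ≫ toX f (ZW p).1 by simp [toX, ZW, reassoc_of% ha],
        Scheme.Hom.comp_apply] at h'
      exact h'
    · obtain ⟨w, rfl⟩ := hrb.ge hz
      have : Within f (A ∩ Y) (HilbD.pull f (gC p) (Z p.1.2).1) :=
        (within_pull_iff f _ _).2 fun t => (hC p.1.2).le ⟨(pullback.snd _ _ : (TW p).left ⟶ _) t, by simp [gC]; rfl⟩
      have h' := (this w).1
      rw [show toX f (HilbD.pull f (gC p) (Z p.1.2).1) = b ≫ toX f (ZW p).1 by simp [toX, ZW, reassoc_of% hb],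
        Scheme.Hom.comp_apply] at h'
      exact h'
  haveI : ∀ p : α, LocallyOfFiniteType (TW p).hom := fun p => by simp only [TW, Over.mk_hom]; infer_instance
  haveI : ∀ p : α, QuasiCompact (TW p).hom := fun p => by simp only [TW, Over.mk_hom]; infer_instance
  -- cut down to `HA d`
  let g : ∀ p : α, pullback (μ p).left (jA d) ⟶ HA d := fun p => pullback.snd _ _
  haveI : ∀ p : α, Surjective (pullback.fst (μ p).left (jA d)) := fun p => ⟨by
    rw [← Set.range_eq_univ, Scheme.Pullback.range_fst, Set.eq_univ_iff_forall]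
    intro t
    rw [Set.mem_preimage, hA]
    refine (inFibre_pull f _ (μ p) t).1 ?_
    rw [hμ p]
    exact fun z _ => hμA p z⟩
  haveI : ∀ p : α, IsClosedImmersion (pullback.fst (μ p).left (jA d)) := fun p =>
    IsClosedImmersion.of_isPreimmersion _
      (by rw [(pullback.fst (μ p).left (jA d)).surjective.range_eq]; exact isClosed_univ)
  haveI : ∀ p : α, LocallyOfFiniteType (g p) := fun p => by
    haveI : LocallyOfFiniteType (g p ≫ jA d ≫ (H d).hom) := by
      rw [show g p ≫ jA d ≫ (H d).hom = pullback.fst (μ p).left (jA d) ≫ (TW p).hom by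
        rw [← Over.w (μ p)]; exact (pullback.condition_assoc _).symm]
      infer_instance
    exact locallyOfFiniteType_of_comp (g p) (jA d ≫ (H d).hom)
  haveI : IsLocallyNoetherian (HA d) := LocallyOfFiniteType.isLocallyNoetherian (jA d ≫ (H d).hom)
  haveI : ∀ p : α, QuasiCompact (g p) := fun p => by
    haveI : QuasiCompact (g p ≫ jA d ≫ (H d).hom) := by
      rw [show g p ≫ jA d ≫ (H d).hom = pullback.fst (μ p).left (jA d) ≫ (TW p).hom by
        rw [← Over.w (μ p)]; exact (pullback.condition_assoc _).symm]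
      infer_instance
    exact QuasiCompact.of_comp (g p) (jA d ≫ (H d).hom)
  have hW : ∀ p : α, K0Var.cl (g p ≫ jA d ≫ (H d).hom) =
      K0Var.cl (jB p.1.1 ≫ (H p.1.1).hom) * K0Var.cl (jC p.1.2 ≫ (H p.1.2).hom) := fun p => by
    rw [← K0Var.cl_mul]
    refine (K0Var.cl_congr _ _ (Iso.refl _) ?_).trans (cl_eq_of_surjective (TW p).hom
      (pullback.fst (μ p).left (jA d))).symm
    rw [Iso.refl_hom, Category.id_comp, ← Over.w (μ p)]; exact pullback.condition_assoc _
  refine (cl_eq_sum_of_generic (jA d ≫ (H d).hom) Finset.univ _ g ?_).trans ?_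
  · intro V _ v _ _ _
    let T0 : Over (Spec (CommRingCat.of k)) := Over.mk ((v ≫ jA d) ≫ (H d).hom)
    let I0 := objPull (T' := T0) (Over.homMk (v ≫ jA d) rfl : T0 ⟶ H d) (Z d)
    obtain ⟨⟨f1, f2, f3⟩, -⟩ := I0.2
    haveI := f1; haveI := f2; haveI := f3
    haveI : IsIntegral T0.left := ‹IsIntegral V›
    obtain ⟨U, hUne, E, hE, hUE⟩ := exists_open_isClosed_inter (toT f I0.1)
      (hY.isOpen_compl.preimage (toX f I0.1).continuous)
    haveI : IsLocallyNoetherian V := LocallyOfFiniteType.isLocallyNoetherian (v ≫ jA d ≫ (H d).hom)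
    refine ⟨U, inferInstance, hUne, ?_⟩
    let T : Over (Spec (CommRingCat.of k)) := Over.mk (((U : V.Opens).ι ≫ v ≫ jA d) ≫ (H d).hom)
    let gT : T ⟶ H d := Over.homMk ((U : V.Opens).ι ≫ v ≫ jA d) rfl
    let e0 : T ⟶ T0 := Over.homMk (U : V.Opens).ι (by simp [T, T0])
    let I := objPull gT (Z d)
    have hI : I.1 = HilbD.pull f e0 I0.1 :=
      ((pull_comp f (Over.homMk (v ≫ jA d) rfl : T0 ⟶ H d) e0 (Z d).1).trans
        (congrArg (a₂ := gT) (fun g => HilbD.pull f g (Z d).1) (Over.OverMorphism.ext rfl))).symm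
    have hclopen : IsClopen (toX f I.1 ⁻¹' Yᶜ) := by
      refine ⟨?_, hY.isOpen_compl.preimage (toX f I.1).continuous⟩
      rw [hI]
      obtain ⟨q, -, hq, hX⟩ := exists_isPullback_pull f e0 I0.1
      rw [← hX]
      have : (q ≫ toX f I0.1) ⁻¹' Yᶜ = q ⁻¹' E := by
        ext z
        have hz : q z ∈ toT f I0.1 ⁻¹' (U : Set T0.left) := by
          show toT f I0.1 (q z) ∈ (U : Set T0.left)
          rw [← Scheme.Hom.comp_apply, hq.w, Scheme.Hom.comp_apply]
          exact (toT f (HilbD.pull f e0 I0.1) z).2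
        have := Set.ext_iff.1 hUE (q z)
        rw [Set.mem_preimage, Scheme.Hom.comp_apply]
        exact ⟨fun h => (this.1 ⟨hz, h⟩).2, fun h => (this.2 ⟨hz, h⟩).2⟩
      rw [this]
      exact hE.preimage q.continuous
    haveI : Nonempty T.left := ⟨(⟨_, hUne.choose_spec⟩ : (U : V.Opens).toScheme)⟩
    haveI : Nonempty (U : V.Opens).toScheme := ⟨⟨_, hUne.choose_spec⟩⟩
    haveI : IsIntegral T.left := isIntegral_of_isOpenImmersion (U : V.Opens).ι
    obtain ⟨a, J, hJp, hJ⟩ := exists_piece f I.1 I.2 hclopen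
    obtain ⟨b, K, hKp, hK⟩ := exists_piece f (P := Yᶜᶜ) I.1 I.2 (by
      rw [Set.preimage_compl]; exact hclopen.compl)
    have hunion : I.1 = union f J K := eq_union_of_isPiece f hJp hKp
    obtain ⟨t₀⟩ : Nonempty T.left := inferInstance
    have hab : a + b = d := by
      have h1 := (finLocFreeOfDeg_union f (hJp.within f) (hKp.within f) hJ hK).2 t₀
      have h2 := I.2.2 t₀
      rw [hunion] at h2
      exact h1.symm.trans h2
    let p₀ : α := ⟨(a, b), Finset.HasAntidiagonal.mem_antidiagonal.2 hab⟩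
    have hIA : Within f A I.1 := (within_pull_iff f _ gT).2 fun t =>
      (hA d).le ⟨v ((U : V.Opens).ι t), rfl⟩
    obtain ⟨s1, hs1, -⟩ := hZ a T ⟨J, hJ⟩
    obtain ⟨s2, hs2, -⟩ := hZ b T ⟨K, hK⟩
    have hJA : Within f (A ∩ Yᶜ) J := fun z => by
      refine ⟨?_, hJp.within f z⟩
      obtain ⟨a', -, ha', -⟩ := hJp
      rw [show toX f J = a' ≫ toX f I.1 by simp [toX, reassoc_of% ha'], Scheme.Hom.comp_apply]
      exact hIA _
    have hKA : Within f (A ∩ Y) K := fun z => by
      refine ⟨?_, by simpa using hKp.within f z⟩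
      obtain ⟨a', -, ha', -⟩ := hKp
      rw [show toX f K = a' ≫ toX f I.1 by simp [toX, reassoc_of% ha'], Scheme.Hom.comp_apply]
      exact hIA _
    obtain ⟨l1, hl1⟩ := exists_lift_reduced (jB a) s1.left (by
      rintro _ ⟨t, rfl⟩; rw [hB]
      exact (within_pull_iff f _ s1).1 (show Within f (A ∩ Yᶜ) (HilbD.pull f s1 (Z a).1) by rw [hs1]; exact hJA) t)
    obtain ⟨l2, hl2⟩ := exists_lift_reduced (jC b) s2.left (by
      rintro _ ⟨t, rfl⟩; rw [hC]
      exact (within_pull_iff f _ s2).1 (show Within f (A ∩ Y) (HilbD.pull f s2 (Z b).1) by rw [hs2]; exact hKA) t)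
    let s : T ⟶ TW p₀ := Over.homMk (pullback.lift l1 l2 (by
      rw [← Category.assoc, hl1, ← Category.assoc, hl2]
      exact (Over.w s1).trans (Over.w s2).symm)) (by
      show pullback.lift l1 l2 _ ≫ pullback.fst _ _ ≫ jB a ≫ hd a = T.hom
      rw [pullback.lift_fst_assoc, ← Category.assoc, hl1]
      exact Over.w s1)
    have hsB : s ≫ gB p₀ = s1 := Over.OverMorphism.ext (by simp [s, gB, p₀, hl1])
    have hsC : s ≫ gC p₀ = s2 := Over.OverMorphism.ext (by simp [s, gC, p₀, hl2])
    have hpu : ∀ {Q : Over (Spec (CommRingCat.of k))} (p : α) (w : Q ⟶ TW p),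
        HilbD.pull f (w ≫ μ p) (Z d).1 = HilbD.pull f w (ZW p).1 := fun p w => by
      rw [← pull_comp, hμ]
    have hsμ : s ≫ μ p₀ = gT := by
      refine eq_of_isUniversal (hZ d) _ _ ?_
      rw [hpu]
      show _ = I.1
      obtain ⟨q1, q2⟩ := isPiece_union f (wB p₀) (wC p₀)
      have e := eq_union_of_isPiece f (q1.pull f s) (q2.pull f s)
      rw [pull_comp, pull_comp, hsB, hsC, hs1, hs2, ← hunion] at e
      exact e
    -- uniqueness
    have key : ∀ {Q : Over (Spec (CommRingCat.of k))} (p : α) (q : Q ⟶ T) (w : Q ⟶ TW p),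
        q ≫ gT = w ≫ μ p → (Nonempty Q.left → p = p₀) ∧ ∀ h : p = p₀, w = q ≫ s ≫ eqToHom (by rw [h]) := by
      intro Q p q w hqw
      obtain ⟨q1, q2⟩ := isPiece_union f (wB p) (wC p)
      have e : HilbD.pull f q I.1 = HilbD.pull f w (ZW p).1 := by
        rw [← hpu, ← hqw]; exact pull_comp f gT q _
      have e1 : HilbD.pull f q J = HilbD.pull f (w ≫ gB p) (Z p.1.1).1 :=
        ((hJp.pull f q).unique f (by rw [e, ← pull_comp]; exact q1.pull f w))
      have e2 : HilbD.pull f q K = HilbD.pull f (w ≫ gC p) (Z p.1.2).1 :=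
        ((hKp.pull f q).unique f (by rw [e, ← pull_comp]; exact q2.pull f w))
      refine ⟨fun ⟨t⟩ => ?_, ?_⟩
      · have h1 := (objPull (w ≫ gB p) (Z p.1.1)).2.2 t
        have h2 := (objPull q ⟨J, hJ⟩).2.2 t
        simp only [objPull] at h1 h2
        rw [← e1] at h1
        have h3 : p.1.1 = a := h1.symm.trans h2
        have h4 := Finset.HasAntidiagonal.mem_antidiagonal.1 p.2
        exact Subtype.ext (Prod.ext h3 (by show p.1.2 = b; omega))
      · rintro rfl
        have f1 : q ≫ s1 = w ≫ gB p₀ := by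
          refine eq_of_isUniversal (hZ a) _ _ ?_
          rw [← pull_comp, hs1]; exact e1
        have f2 : q ≫ s2 = w ≫ gC p₀ := by
          refine eq_of_isUniversal (hZ b) _ _ ?_
          rw [← pull_comp, hs2]; exact e2
        have f1' := congrArg CommaMorphism.left f1
        have f2' := congrArg CommaMorphism.left f2
        refine Over.OverMorphism.ext ?_
        rw [eqToHom_refl, Category.comp_id, Over.comp_left]
        apply pullback.hom_ext
        · rw [← cancel_mono (jB a)]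
          simpa [s, gB, p₀, hl1] using f1'.symm
        · rw [← cancel_mono (jC b)]
          simpa [s, gC, p₀, hl2] using f2'.symm
    rw [Finset.sum_eq_single p₀]
    · let P := pullback ((U : V.Opens).ι ≫ v) (g p₀)
      let σ : T.left ⟶ P := pullback.lift (𝟙 _) (pullback.lift s.left ((U : V.Opens).ι ≫ v)
        (by have := congrArg CommaMorphism.left hsμ; simpa [gT] using this)) (by simp [g])
      have hσ : σ ≫ pullback.fst ((U : V.Opens).ι ≫ v) (g p₀) = 𝟙 _ := pullback.lift_fst _ _ _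
      haveI : IsSplitEpi (pullback.fst ((U : V.Opens).ι ≫ v) (g p₀)) := IsSplitEpi.mk' ⟨σ, hσ⟩
      haveI : Mono (pullback.fst ((U : V.Opens).ι ≫ v) (g p₀)) := ⟨fun {Q} x y hxy => by
        refine pullback.hom_ext hxy ?_
        have hz : (x ≫ pullback.snd _ _) ≫ g p₀ = (y ≫ pullback.snd _ _) ≫ g p₀ := by
          rw [Category.assoc, Category.assoc, ← pullback.condition, reassoc_of% hxy]
        refine pullback.hom_ext ?_ hz
        let QO : Over (Spec (CommRingCat.of k)) := Over.mk ((x ≫ pullback.fst _ _) ≫ T.hom)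
        let qx : QO ⟶ T := Over.homMk (x ≫ pullback.fst _ _) rfl
        have hw : ∀ z : Q ⟶ P, z ≫ pullback.fst _ _ = x ≫ pullback.fst _ _ →
            ((z ≫ pullback.snd _ _) ≫ pullback.fst (μ p₀).left (jA d)) = qx.left ≫ s.left := by
          intro z hz
          have hc : ((z ≫ pullback.snd _ _) ≫ pullback.fst (μ p₀).left (jA d)) ≫ (μ p₀).left =
              qx.left ≫ gT.left := by
            have c1 : pullback.snd ((U : V.Opens).ι ≫ v) (g p₀) ≫ g p₀ =
                pullback.fst ((U : V.Opens).ι ≫ v) (g p₀) ≫ (U : V.Opens).ι ≫ v := pullback.condition.symm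
            rw [Category.assoc, pullback.condition, Category.assoc, reassoc_of% c1, reassoc_of% hz]
            simp [qx, gT]
          let w : QO ⟶ TW p₀ := Over.homMk ((z ≫ pullback.snd _ _) ≫ pullback.fst (μ p₀).left (jA d)) (by
            rw [← Over.w (μ p₀), ← Category.assoc, hc, Category.assoc, Over.w gT]; rfl)
          have := congrArg CommaMorphism.left ((key p₀ qx w (Over.OverMorphism.ext hc.symm)).2 rfl)
          simpa [w] using this
        rw [hw x rfl, hw y hxy.symm]⟩
      haveI := isIso_of_mono_of_isSplitEpi (pullback.fst ((U : V.Opens).ι ≫ v) (g p₀))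
      exact (K0Var.cl_congr _ _ (asIso (pullback.fst ((U : V.Opens).ι ≫ v) (g p₀))) (by simp)).symm
    · intro p _ hp
      haveI : IsEmpty ↥(pullback ((U : V.Opens).ι ≫ v) (g p)) := ⟨fun t => hp <| by
        let QO : Over (Spec (CommRingCat.of k)) :=
          Over.mk (pullback.fst ((U : V.Opens).ι ≫ v) (g p) ≫ T.hom)
        let qx : QO ⟶ T := Over.homMk (pullback.fst _ _) rfl
        have hc : (pullback.snd ((U : V.Opens).ι ≫ v) (g p) ≫ pullback.fst (μ p).left (jA d)) ≫ (μ p).left =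
            qx.left ≫ gT.left := by
          have c1 : pullback.snd ((U : V.Opens).ι ≫ v) (g p) ≫ g p =
              pullback.fst ((U : V.Opens).ι ≫ v) (g p) ≫ (U : V.Opens).ι ≫ v := pullback.condition.symm
          rw [Category.assoc, pullback.condition, reassoc_of% c1]
          simp [qx, gT]
        let w : QO ⟶ TW p :=
          Over.homMk (pullback.snd ((U : V.Opens).ι ≫ v) (g p) ≫ pullback.fst (μ p).left (jA d)) (by
            rw [← Over.w (μ p), ← Category.assoc, hc, Category.assoc, Over.w gT]; rfl)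
        exact (key p qx w (Over.OverMorphism.ext hc.symm)).1 ⟨t⟩⟩
      rw [K0Var.cl_eq_gen_cl, K0Var.Gen.cl_eq_zero_of_isEmpty]
    · exact fun h => absurd (Finset.mem_univ _) h
  · exact Finset.sum_congr (Finset.univ_eq_attach _) fun p _ => hW p

end Groth.Agent.HilbZeta12
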