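import Groth.Agent.HilbZeta12.PlanarClass
import Mathlib.RingTheory.Localization.Away.Basic

/-!
The class of a split torus is a polynomial in the class of the affine line.
-/

set_option autoImplicit false
set_option linter.style.haveILetI false
set_option maxHeartbeats 1600000
set_option backward.isDefEq.respectTransparency false
set_option backward.isDefEq.respectTransparency.types false

universe u

open CategoryTheory CategoryTheory.Limits AlgebraicGeometry

noncomputable section

namespace Groth.Agent.HilbZeta12

variable (k : Type u) [Field k]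

/-- the product of the coordinates -/
def coordProd (m : ℕ) : MvPolynomial (Fin m) k := ∏ i : Fin m, MvPolynomial.X i

/-- the coordinate ring of the torus -/
abbrev Tor (m : ℕ) : Type u := Localization.Away (coordProd k m)

instance (m : ℕ) : IsDomain (Tor k m) :=
  IsLocalization.isDomain_localization (powers_le_nonZeroDivisors_of_noZeroDivisors
    (Finset.prod_ne_zero_iff.2 fun i _ => MvPolynomial.X_ne_zero i))

instance (m : ℕ) : Algebra.FiniteType k (Tor k m) :=
  Algebra.FiniteType.trans (S := MvPolynomial (Fin m) k) inferInstance
    (IsLocalization.finiteType_of_monoid_fg (Submonoid.powers (coordProd k m)) _)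

variable {k}

/-- the coordinates of the torus -/
def torX {m : ℕ} (i : Fin m) : Tor k m := algebraMap (MvPolynomial (Fin m) k) (Tor k m) (MvPolynomial.X i)

theorem isUnit_torX {m : ℕ} (i : Fin m) : IsUnit (torX (k := k) i) := by
  have h : IsUnit (algebraMap (MvPolynomial (Fin m) k) (Tor k m) (coordProd k m)) :=
    IsLocalization.Away.algebraMap_isUnit (coordProd k m)
  have h' : IsUnit (∏ j : Fin m, torX (k := k) j) := by
    convert h using 1
    exact (map_prod (algebraMap (MvPolynomial (Fin m) k) (Tor k m)) _ _).symm
  exact (IsUnit.prod_iff).1 h' i (Finset.mem_univ i)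

/-- points of the torus -/
theorem existsUnique_torPoint {m : ℕ} {K : Type u} [Field K] [Algebra k K] (t : Fin m → K) (ht : ∀ i, t i ≠ 0) :
    ∃! φ : Tor k m →ₐ[k] K, ∀ i, φ (torX i) = t i := by
  have hu : ∀ y : Submonoid.powers (coordProd k m), IsUnit (MvPolynomial.aeval t (y : MvPolynomial (Fin m) k)) := by
    rintro ⟨_, l, rfl⟩
    refine isUnit_iff_ne_zero.2 ?_
    simp only [map_pow, coordProd, map_prod, MvPolynomial.aeval_X]
    exact pow_ne_zero _ (Finset.prod_ne_zero_iff.2 fun i _ => ht i)
  refine ⟨IsLocalization.liftAlgHom (S := Tor k m) hu, fun i => ?_, fun ψ hψ => ?_⟩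
  · simp [torX]
  · refine IsLocalization.algHom_ext (Submonoid.powers (coordProd k m)) (MvPolynomial.algHom_ext fun i => ?_)
    refine (hψ i).trans ?_
    exact (by simp [torX] : t i = IsLocalization.liftAlgHom (S := Tor k m) hu (torX i))

variable (k)

/-- polynomials in `L` -/
def lefschetzRing : Subring (K0Var.K (Spec (CommRingCat.of k))) :=
  (Polynomial.eval₂RingHom (Int.castRingHom _) (K0Var.L (Spec (CommRingCat.of k)))).range

/-- the torus placed on a coordinate subspace -/
def subTorus {m : ℕ} (s : Finset (Fin m)) : MvPolynomial (Fin m) k →ₐ[k] Tor k s.card :=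
  MvPolynomial.aeval fun i => if h : i ∈ s then torX (s.equivFin ⟨i, h⟩) else 0

theorem clSpec_torus_mem (m : ℕ) : clSpec (k := k) (Tor k m) ∈ lefschetzRing k := by
  induction m using Nat.strong_induction_on with
  | _ m ih =>
    have hL : K0Var.L (Spec (CommRingCat.of k)) ^ m ∈ lefschetzRing k :=
      pow_mem (RingHom.mem_range.2 ⟨Polynomial.X, by simp⟩) m
    let g : ∀ s : Finset (Fin m), Spec (CommRingCat.of (Tor k s.card)) ⟶ Spec (CommRingCat.of (MvPolynomial (Fin m) k)) :=
      fun s => Spec.map (CommRingCat.ofHom (subTorus k s).toRingHom)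
    have hg : ∀ s, g s ≫ Spec.map (CommRingCat.ofHom (algebraMap k (MvPolynomial (Fin m) k))) =
        Spec.map (CommRingCat.ofHom (algebraMap k (Tor k s.card))) := fun s => by
      rw [← Spec.map_comp]; congr 1; ext c; exact (subTorus k s).commutes c
    haveI : ∀ s, LocallyOfFiniteType (g s) := fun s => by
      haveI : LocallyOfFiniteType (g s ≫ Spec.map (CommRingCat.ofHom (algebraMap k (MvPolynomial (Fin m) k)))) := by
        rw [hg]; infer_instance
      exact locallyOfFiniteType_of_comp (g s) (Spec.map (CommRingCat.ofHom (algebraMap k (MvPolynomial (Fin m) k))))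
    have hsum : clSpec (k := k) (MvPolynomial (Fin m) k) = ∑ s : Finset (Fin m), clSpec (k := k) (Tor k s.card) := by
      rw [clSpec, cl_eq_sum_of_points (Spec.map (CommRingCat.ofHom (algebraMap k (MvPolynomial (Fin m) k))))
        (fun s : Finset (Fin m) => Spec (CommRingCat.of (Tor k s.card))) g ?_]
      · exact Finset.sum_congr rfl fun s _ => K0Var.cl_congr _ _ (Iso.refl _) (by rw [Iso.refl_hom, Category.id_comp, hg])
      intro K _ x
      obtain ⟨χ, rfl⟩ := Spec.map_surjective x
      letI : Algebra k K := (χ.hom.comp (algebraMap k (MvPolynomial (Fin m) k))).toAlgebra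
      let c : MvPolynomial (Fin m) k →ₐ[k] K := { χ.hom with commutes' := fun _ => rfl }
      classical
      let s : Finset (Fin m) := Finset.univ.filter fun i => c (MvPolynomial.X i) ≠ 0
      obtain ⟨φ, hφ, hφu⟩ := existsUnique_torPoint (k := k) (fun j => c (MvPolynomial.X (s.equivFin.symm j).1))
        (fun j => (Finset.mem_filter.1 (s.equivFin.symm j).2).2)
      have hcomp : φ.comp (subTorus k s) = c := by
        refine MvPolynomial.algHom_ext fun i => ?_
        simp only [subTorus, AlgHom.comp_apply, MvPolynomial.aeval_X]
        split_ifs with h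
        · rw [hφ, Equiv.symm_apply_apply]
        · rw [map_zero]
          by_contra hne
          exact h (Finset.mem_filter.2 ⟨Finset.mem_univ i, Ne.symm hne⟩)
      refine ⟨⟨s, Spec.map (CommRingCat.ofHom φ.toRingHom)⟩, ?_, ?_⟩
      · show Spec.map _ ≫ Spec.map _ = Spec.map χ
        rw [← Spec.map_comp]
        congr 1
        ext1
        exact congrArg AlgHom.toRingHom hcomp
      · rintro ⟨s', w⟩ (hw : w ≫ g s' = Spec.map χ)
        obtain ⟨ψ, rfl⟩ := Spec.map_surjective w
        rw [← Spec.map_comp] at hw
        have hw' := Spec.map_injective hw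
        have hψk : ∀ a : k, ψ.hom (algebraMap k (Tor k s'.card) a) = algebraMap k K a := fun a => by
          rw [← (subTorus k s').commutes a]
          exact congr($hw' (algebraMap k (MvPolynomial (Fin m) k) a))
        let ψ' : Tor k s'.card →ₐ[k] K := { ψ.hom with commutes' := hψk }
        have hψ : ∀ p, ψ' (subTorus k s' p) = c p := fun p => congr($hw' p)
        obtain rfl : s' = s := by
          ext i
          have := hψ (MvPolynomial.X i)
          simp only [subTorus, MvPolynomial.aeval_X] at this
          simp only [s, Finset.mem_filter, Finset.mem_univ, true_and]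
          constructor
          · intro hi
            rw [dif_pos hi] at this
            rw [← this]
            exact ((isUnit_torX _).map ψ').ne_zero
          · intro hi
            by_contra hn
            rw [dif_neg hn, map_zero] at this
            exact hi this.symm
        have : ψ' = φ := hφu ψ' fun j => by
          have := hψ (MvPolynomial.X (s.equivFin.symm j).1)
          simp only [subTorus, MvPolynomial.aeval_X, dif_pos (s.equivFin.symm j).2, Subtype.coe_eta,
            Equiv.apply_symm_apply] at this
          exact this
        rw [← this]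
        rfl
    have htop : clSpec (k := k) (Tor k (Finset.univ : Finset (Fin m)).card) = clSpec (k := k) (Tor k m) := by
      rw [Finset.card_fin]
    rw [← htop, ← Finset.add_sum_erase _ _ (Finset.mem_univ (Finset.univ : Finset (Fin m))), add_comm] at *
    have hrest : ∑ s ∈ (Finset.univ : Finset (Finset (Fin m))).erase Finset.univ,
        clSpec (k := k) (Tor k s.card) ∈ lefschetzRing k := sum_mem fun s hs => by
      refine ih _ ?_
      have h1 : s ⊂ Finset.univ :=
        Finset.ssubset_univ_iff.2 (Finset.ne_of_mem_erase hs)
      simpa using Finset.card_lt_card h1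
    rw [clSpec_mvPolynomial] at hsum
    have := sub_mem hL hrest
    rw [hsum] at this
    simpa using this

end Groth.Agent.HilbZeta12
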