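import Groth.Agent.HilbZeta12.AxesIdeals
import Groth.Agent.HilbZeta12.TorusClass

/-!
Classes of the punctual Hilbert schemes of the union of the coordinate axes.
-/

set_option autoImplicit false
set_option linter.style.haveILetI false
set_option maxHeartbeats 1600000
set_option backward.isDefEq.respectTransparency false
set_option backward.isDefEq.respectTransparency.types false

universe u

open CategoryTheory CategoryTheory.Limits AlgebraicGeometry
open scoped TensorProduct

noncomputable section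

namespace Groth.Agent.HilbZeta12

open Groth.Agent.Grass5.Punct Axes

variable {k : Type u} [Field k] {N : ℕ} {R : Type u} [CommRing R] [Algebra k R] (x : Fin N → R)

variable (k) in
/-- `R` is presented by the coordinates `x` as the ring of the union of the coordinate axes -/
structure IsAxes : Prop where
  surj : Function.Surjective (MvPolynomial.aeval (R := k) x)
  mul_eq_zero : ∀ i j : Fin N, i ≠ j → x i * x j = 0
  exists_hom : ∀ (C : Type u) [CommRing C] [Algebra k C] (y : Fin N → C),
    (∀ i j : Fin N, i ≠ j → y i * y j = 0) → ∃ ψ : R →ₐ[k] C, ∀ i, ψ (x i) = y i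

variable (k) in
/-- evaluation at the coordinates -/
def axEval (B : Type u) [CommRing B] [Algebra k B] : MvPolynomial (Fin N) B →ₐ[B] B ⊗[k] R :=
  MvPolynomial.aeval fun i => (1 : B) ⊗ₜ[k] x i

theorem axEval_natural {B B' : Type u} [CommRing B] [Algebra k B] [CommRing B'] [Algebra k B']
    (φ : B →ₐ[k] B') :
    (bcA R φ).toRingHom.comp (axEval k x B).toRingHom =
      (axEval k x B').toRingHom.comp (MvPolynomial.map φ.toRingHom) := by
  refine MvPolynomial.ringHom_ext (fun b => ?_) (fun i => ?_)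
  · simp [axEval, Algebra.TensorProduct.algebraMap_apply]
  · simp [axEval]

variable {x}

theorem axEval_surjective (hA : IsAxes k x) (B : Type u) [CommRing B] [Algebra k B] :
    Function.Surjective (axEval k x B).toRingHom := by
  intro z
  induction z with
  | zero => exact ⟨0, map_zero _⟩
  | add a b ha hb =>
    obtain ⟨p, rfl⟩ := ha
    obtain ⟨q, rfl⟩ := hb
    exact ⟨p + q, map_add _ _ _⟩
  | tmul b r =>
    obtain ⟨p, rfl⟩ := hA.surj r
    induction p using MvPolynomial.induction_on generalizing b with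
    | C c =>
      refine ⟨MvPolynomial.C (b * algebraMap k B c), ?_⟩
      show axEval k x B _ = _
      rw [axEval, MvPolynomial.aeval_C, MvPolynomial.aeval_C, Algebra.TensorProduct.algebraMap_apply,
        Algebra.algebraMap_self_apply, Algebra.algebraMap_eq_smul_one (A := R), TensorProduct.tmul_smul,
        TensorProduct.smul_tmul', Algebra.smul_def, mul_comm]
    | add p q hp hq =>
      obtain ⟨a, ha⟩ := hp b
      obtain ⟨a', ha'⟩ := hq b
      exact ⟨a + a', by rw [map_add, map_add, TensorProduct.tmul_add, ha, ha']⟩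
    | mul_X p i hp =>
      obtain ⟨a, ha⟩ := hp b
      exact ⟨a * MvPolynomial.X i, by rw [map_mul, map_mul, ha]; simp [axEval]⟩

theorem ker_axEval_le (hA : IsAxes k x) {B : Type u} [CommRing B] [Algebra k B]
    (I : Ideal (MvPolynomial (Fin N) B))
    (hI : ∀ i j : Fin N, i ≠ j → MvPolynomial.X i * MvPolynomial.X j ∈ I) :
    RingHom.ker (axEval k x B).toRingHom ≤ I := by
  have hq : ∀ c : k, Ideal.Quotient.mk I (MvPolynomial.C (algebraMap k B c)) =
      algebraMap k (MvPolynomial (Fin N) B ⧸ I) c := fun c => by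
    rw [← Ideal.Quotient.mk_algebraMap, MvPolynomial.algebraMap_apply]
  obtain ⟨ψ, hψ⟩ := hA.exists_hom (MvPolynomial (Fin N) B ⧸ I)
    (fun i => Ideal.Quotient.mk I (MvPolynomial.X i)) fun i j hij => by
      rw [← map_mul, Ideal.Quotient.eq_zero_iff_mem]; exact hI i j hij
  let β : B →ₐ[k] MvPolynomial (Fin N) B ⧸ I :=
    { (Ideal.Quotient.mk I).comp MvPolynomial.C with commutes' := hq }
  let θ := Algebra.TensorProduct.lift β ψ (fun _ _ => Commute.all _ _)
  have h : θ.toRingHom.comp (axEval k x B).toRingHom = Ideal.Quotient.mk I := by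
    refine MvPolynomial.ringHom_ext (fun b => ?_) (fun i => ?_)
    · simp [θ, β, axEval, Algebra.TensorProduct.algebraMap_apply]
    · simp [θ, axEval, hψ]
  intro f hf
  rw [← Ideal.Quotient.eq_zero_iff_mem, ← RingHom.congr_fun h f, RingHom.comp_apply, RingHom.mem_ker.1 hf,
    map_zero]

/-- the data of a cell -/
def Shape (N d : ℕ) : Type :=
  {a : (Fin N → Fin (d + 1)) × Finset (Fin N) × Finset (Fin N × Fin N) //
    (∀ i, 0 < (a.1 i).1) ∧ (∀ e ∈ a.2.2, e.1 ∈ a.2.1 ∧ e.2 ∉ a.2.1 ∧ e.1 < e.2) ∧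
      (∀ q ∉ a.2.1, ∃ p, (p, q) ∈ a.2.2) ∧ d + a.2.1.card = 1 + ∑ i, (a.1 i).1}

instance (N d : ℕ) : Fintype (Shape N d) := by unfold Shape; exact inferInstance

variable (k) in
/-- the family over the torus of a shape -/
def shapeDatum {d : ℕ} (a : Shape N d) : Datum N (Tor k a.1.2.2.card) :=
  ⟨fun i => (a.1.1 i).1, a.2.1, a.1.2.1,
    fun p q => if h : (p, q) ∈ a.1.2.2 then torX (a.1.2.2.equivFin ⟨(p, q), h⟩) else 0⟩

theorem isNormal_shape {d : ℕ} (a : Shape N d) {K : Type u} [Field K] [Algebra k K]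
    (φ : Tor k a.1.2.2.card →ₐ[k] K) : IsNormal ((shapeDatum k a).map φ.toRingHom) a.1.2.2 := by
  refine ⟨fun p q => ?_, a.2.2.1, a.2.2.2.1⟩
  show φ ((shapeDatum k a).T p q) ≠ 0 ↔ _
  simp only [shapeDatum]
  split_ifs with h
  · exact iff_of_true ((isUnit_torX _).map φ).ne_zero h
  · exact iff_of_false (fun hne => hne (map_zero φ)) h

theorem comap_map_axEval (hA : IsAxes k x)
    {B : Type u} [CommRing B] [Algebra k B] (D : Datum N B) :
    ((ideal D).map (axEval k x B).toRingHom).comap (axEval k x B).toRingHom = ideal D := by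
  rw [Ideal.comap_map_of_surjective _ (axEval_surjective hA B)]
  exact sup_eq_left.2 (ker_axEval_le hA _ fun i j hij => X_mul_X_mem D hij)

theorem nonempty_basis_shape
    (hA : IsAxes k x)
    {B : Type u} [CommRing B] [Algebra k B] (D : Datum N B) {d : ℕ} (hd : d + D.P.card = 1 + ∑ i, D.o i) :
    Nonempty (Module.Basis (Fin d) B ((B ⊗[k] R) ⧸ (ideal D).map (axEval k x B).toRingHom)) := by
  have e1 := (AlgEquiv.ofBijective
    (Ideal.quotientMapₐ ((ideal D).map (axEval k x B).toRingHom) (axEval k x B) Ideal.le_comap_map)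
    ⟨Ideal.quotientMap_injective' (H := Ideal.le_comap_map) (comap_map_axEval hA D).le,
      Ideal.quotientMap_surjective (H := Ideal.le_comap_map) (axEval_surjective hA B)⟩).toLinearEquiv
  have hc : Fintype.card (BIdx D) = d := by have := card_BIdx D; omega
  exact ⟨((quotBasis D).map e1).reindex (Fintype.equivFinOfCardEq hc)⟩

theorem suppAt_shape {B : Type u} [CommRing B] [Algebra k B] (D : Datum N B) :
    SuppAt (Set.range x) ((ideal D).map (axEval k x B).toRingHom) := by
  rintro _ ⟨i, rfl⟩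
  refine ⟨D.o i + 1, ?_⟩
  have : axEval k x B (MvPolynomial.X i ^ (D.o i + 1)) = ((1 : B) ⊗ₜ[k] x i) ^ (D.o i + 1) := by
    simp [axEval, Algebra.TensorProduct.tmul_pow]
  rw [← this]
  exact Ideal.mem_map_of_mem (axEval k x B).toRingHom (X_pow_mem D i (Nat.lt_succ_self _))

theorem existsUnique_shape
    (hA : IsAxes k x)
    {d : ℕ} (hd : 0 < d) {K : Type u} [Field K] [Algebra k K] (J' : Ideal (K ⊗[k] R))
    (hfin : Module.Finite K ((K ⊗[k] R) ⧸ J')) (hrk : Module.finrank K ((K ⊗[k] R) ⧸ J') = d)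
    (hsupp : SuppAt (Set.range x) J') :
    ∃! q : Σ a : Shape N d, Tor k a.1.2.2.card →ₐ[k] K,
      ((ideal (shapeDatum k q.1)).map (axEval k x _).toRingHom).map (bcA (R) q.2).toRingHom = J' := by
  classical
  have hat : ∀ (a : Shape N d) (φ : Tor k a.1.2.2.card →ₐ[k] K),
      ((ideal (shapeDatum k a)).map (axEval k x _).toRingHom).map (bcA (R) φ).toRingHom =
        (ideal ((shapeDatum k a).map φ.toRingHom)).map (axEval k x K).toRingHom := fun a φ => by
    rw [Ideal.map_map, axEval_natural, ← Ideal.map_map, map_ideal]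
  let I := J'.comap (axEval k x K).toRingHom
  have hmapI : I.map (axEval k x K).toRingHom = J' :=
    Ideal.map_comap_of_surjective _ (axEval_surjective hA K) J'
  have hmix : ∀ i j : Fin N, i ≠ j → MvPolynomial.X i * MvPolynomial.X j ∈ I := by
    intro i j hij
    show axEval k x K (MvPolynomial.X i * MvPolynomial.X j) ∈ J'
    have : x i * x j = 0 := hA.mul_eq_zero i j hij
    simp [axEval, this]
  have hpow : ∀ i, MvPolynomial.X i ^ d ∈ I := by
    intro i
    show axEval k x K (MvPolynomial.X i ^ d) ∈ J'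
    simpa [axEval] using pow_mem_of_nilpotent_mod J' hfin (hsupp (x i) ⟨i, rfl⟩) hrk.le
  have hne : I ≠ ⊤ := by
    intro h
    rw [h, Ideal.map_top] at hmapI
    haveI : Subsingleton ((K ⊗[k] R) ⧸ J') := Ideal.Quotient.subsingleton_iff.2 hmapI.symm
    rw [Module.finrank_zero_of_subsingleton] at hrk
    omega
  obtain ⟨D, E, hnor, hD, hole⟩ := exists_datum I hmix hpow hne
  have hcard : d + D.P.card = 1 + ∑ i, D.o i := by
    have h1 := card_BIdx D
    obtain ⟨b⟩ := nonempty_basis_shape hA D (d := Fintype.card (BIdx D)) h1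
    have h2 := Module.finrank_eq_card_basis b
    rw [hD, hmapI, hrk, Fintype.card_fin] at h2
    omega
  let a₀ : Shape N d := ⟨(fun i => ⟨D.o i, Nat.lt_succ_of_le (hole i)⟩, D.P, E), D.opos, hnor.shape, hnor.cover, hcard⟩
  obtain ⟨φ, hφ, hφu⟩ := existsUnique_torPoint (k := k)
    (fun e : Fin E.card => D.T (E.equivFin.symm e).1.1 (E.equivFin.symm e).1.2)
    (fun e => (hnor.supp _ _).2 (E.equivFin.symm e).2)
  have hmapD : (shapeDatum k a₀).map φ.toRingHom = D := by
    have hT : (fun p q => φ ((shapeDatum k a₀).T p q)) = D.T := by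
      funext p q
      simp only [shapeDatum, a₀]
      split_ifs with h
      · rw [hφ, Equiv.symm_apply_apply]
      · rw [map_zero]
        by_contra hne'
        exact h ((hnor.supp p q).1 (Ne.symm hne'))
    show (⟨D.o, D.opos, D.P, fun p q => φ ((shapeDatum k a₀).T p q)⟩ : Datum N K) = D
    rw [hT]
  refine ⟨⟨a₀, φ⟩, (hat a₀ φ).trans (by rw [hmapD, hD, hmapI]), ?_⟩
  rintro ⟨⟨⟨o', P', E'⟩, ha'⟩, φ'⟩ hq
  have hI : ideal ((shapeDatum k ⟨(o', P', E'), ha'⟩).map φ'.toRingHom) = I := by
    rw [← comap_map_axEval hA]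
    exact congrArg (Ideal.comap (axEval k x K).toRingHom) ((hat _ φ').symm.trans hq)
  obtain ⟨hDD, hEE⟩ := eq_of_ideal_eq (isNormal_shape _ φ') hnor (hI.trans hD.symm)
  have ho : o' = fun i => (⟨D.o i, Nat.lt_succ_of_le (hole i)⟩ : Fin (d + 1)) :=
    funext fun i => Fin.ext (congrFun (congrArg Datum.o hDD) i)
  have hP : P' = D.P := congrArg Datum.P hDD
  have hE : E' = E := hEE
  subst ho hP hE
  have : φ' = φ := hφu φ' fun e => by
    have hT := congrFun (congrFun (congrArg Datum.T hDD) (E'.equivFin.symm e).1.1) (E'.equivFin.symm e).1.2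
    simpa [shapeDatum, Datum.map] using hT
  rw [this]

/-- **Polynomiality.** -/
theorem cl_punctual_axes_mem
    (hA : IsAxes k x) (d : ℕ)
    (H : Over (Spec (CommRingCat.of k))) (Z : HilbD.Obj (str k (R)) d H)
    (hZ : HilbD.IsUniversal (str k (R)) d H Z) [LocallyOfFiniteType H.hom] [QuasiCompact H.hom]
    (x₀ : Spec (CommRingCat.of (R))) (hG : x₀.asIdeal = Ideal.span (Set.range x))
    (hmax : x₀.asIdeal.IsMaximal) {HP : Scheme.{u}} (ι : HP ⟶ H.left) [IsClosedImmersion ι]
    (hι : Set.range ι = {h | InFibre (str k (R)) ({x₀} : Set ↥(Spec (CommRingCat.of (R)))) Z.1 h}) :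
    K0Var.cl (ι ≫ H.hom) ∈ lefschetzRing k := by
  classical
  haveI : Algebra.FiniteType k R := Algebra.FiniteType.of_surjective (MvPolynomial.aeval x) hA.surj
  rcases Nat.eq_zero_or_pos d with rfl | hd
  · rw [cl_punctual_eq_sum_cells 0 H Z hZ x₀ _ hG hmax ι hι (α := Unit) (fun _ => k) (fun _ => ⊤) ?_ ?_ ?_]
    · refine sum_mem fun _ _ => ?_
      show clSpec k ∈ _
      rw [clSpec_self]
      exact one_mem _
    · intro _
      haveI : Subsingleton ((k ⊗[k] R) ⧸ (⊤ : Ideal (k ⊗[k] R))) :=
        Ideal.Quotient.subsingleton_iff.2 rfl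
      exact ⟨Module.Basis.empty _⟩
    · intro _ g _; rw [Ideal.radical_top]; trivial
    · intro K _ _ J' hfin hrk _
      haveI : Subsingleton ((K ⊗[k] R) ⧸ J') := Module.finrank_zero_iff.1 hrk
      refine ⟨⟨(), Algebra.ofId k K⟩, ?_, fun q _ => ?_⟩
      · show (⊤ : Ideal (k ⊗[k] R)).map _ = J'
        rw [Ideal.map_top]
        exact (Ideal.Quotient.subsingleton_iff.1 inferInstance).symm
      · obtain ⟨⟨⟩, φ⟩ := q
        exact congrArg (Sigma.mk ()) (Subsingleton.elim _ _)
  · rw [cl_punctual_eq_sum_cells d H Z hZ x₀ _ hG hmax ι hι (fun a : Shape N d => Tor k a.1.2.2.card)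
      (fun a => (ideal (shapeDatum k a)).map (axEval k x _).toRingHom)
      (fun a => nonempty_basis_shape hA _ a.2.2.2.2) (fun a => suppAt_shape (shapeDatum k a))
      (fun K _ _ J' hfin hrk hsupp => existsUnique_shape hA hd J' hfin hrk hsupp)]
    exact sum_mem fun a _ => clSpec_torus_mem k _

/-- the presentation of the ring of the coordinate axes -/
theorem isAxes_mk (J : Ideal (MvPolynomial (Fin N) k))
    (hJ : J = Ideal.span {m | ∃ i j : Fin N, i ≠ j ∧ m = MvPolynomial.X i * MvPolynomial.X j}) :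
    IsAxes k fun i => Ideal.Quotient.mk J (MvPolynomial.X i) where
  surj := fun r => by
    obtain ⟨p, rfl⟩ := Ideal.Quotient.mk_surjective r
    refine ⟨p, ?_⟩
    have h : (MvPolynomial.aeval fun i => Ideal.Quotient.mk J (MvPolynomial.X i)) = Ideal.Quotient.mkₐ k J :=
      MvPolynomial.algHom_ext fun i => by simp
    rw [h]; rfl
  mul_eq_zero := fun i j hij => by
    rw [← map_mul, Ideal.Quotient.eq_zero_iff_mem, hJ]
    exact Ideal.subset_span ⟨i, j, hij, rfl⟩
  exists_hom := fun C _ _ y hy => by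
    refine ⟨Ideal.Quotient.liftₐ J (MvPolynomial.aeval y) ?_, fun i => MvPolynomial.aeval_X y i⟩
    intro r hr
    rw [hJ] at hr
    refine (Ideal.span_le.2 ?_ hr : r ∈ RingHom.ker (MvPolynomial.aeval (R := k) y).toRingHom)
    rintro _ ⟨i, j, hij, rfl⟩
    show MvPolynomial.aeval y (MvPolynomial.X i * MvPolynomial.X j) = 0
    rw [map_mul, MvPolynomial.aeval_X, MvPolynomial.aeval_X, hy i j hij]

theorem isMaximal_axes (hA : IsAxes k x) (I : Ideal R) (hI : I ≠ ⊤) (hx : ∀ i, x i ∈ I) :
    I.IsMaximal := by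
  haveI : Nontrivial (R ⧸ I) := Ideal.Quotient.nontrivial_iff.2 hI
  have hsurj : Function.Surjective (algebraMap k (R ⧸ I)) := by
    intro z
    obtain ⟨r, rfl⟩ := Ideal.Quotient.mk_surjective z
    obtain ⟨p, rfl⟩ := hA.surj r
    refine ⟨MvPolynomial.constantCoeff p, ?_⟩
    have : (algebraMap k (R ⧸ I)).comp MvPolynomial.constantCoeff =
        (Ideal.Quotient.mk I).comp (MvPolynomial.aeval (R := k) x).toRingHom := by
      refine MvPolynomial.ringHom_ext (fun c => ?_) (fun i => ?_)
      · simp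
      · simp [Ideal.Quotient.eq_zero_iff_mem.2 (hx i)]
    exact RingHom.congr_fun this p
  refine Ideal.Quotient.maximal_of_isField I ?_
  exact (RingEquiv.ofBijective (algebraMap k (R ⧸ I))
    ⟨(algebraMap k (R ⧸ I)).injective, hsurj⟩).toMulEquiv.symm.isField (Field.toIsField k)

end Groth.Agent.HilbZeta12
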