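import Mathlib.Algebra.MvPolynomial.Basic
import Mathlib.RingTheory.MvPolynomial.Basic
import Mathlib.Algebra.MvPolynomial.CommRing
import Mathlib.RingTheory.Ideal.Maps
import Mathlib.RingTheory.Ideal.Quotient.Operations
import Mathlib.RingTheory.Nilpotent.Basic
import Mathlib.LinearAlgebra.Isomorphisms

/-!
Ideals of finite colength at the origin of the union of the coordinate axes.

Such an ideal is given by orders `o i` on the axes and a space of leading vectors, here described by a
matrix `T` from the pivots `P` to the other coordinates.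
-/

set_option autoImplicit false
set_option linter.style.haveILetI false
set_option maxHeartbeats 800000

universe u v

open MvPolynomial

namespace Groth.Agent.HilbZeta12.Axes

variable {N : ℕ} {A : Type u} [CommRing A]

/-- the coefficient of `X i ^ j` -/
noncomputable def co (f : MvPolynomial (Fin N) A) (i : Fin N) (j : ℕ) : A := f.coeff (Finsupp.single i j)

theorem co_zero (f : MvPolynomial (Fin N) A) (i : Fin N) : co f i 0 = f.coeff 0 := by simp [co]

/-- the ideal given by orders, pivots and a matrix -/
structure Datum (N : ℕ) (A : Type u) where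
  /-- the orders -/
  o : Fin N → ℕ
  /-- they are positive -/
  opos : ∀ i, 0 < o i
  /-- the pivots -/
  P : Finset (Fin N)
  /-- the matrix -/
  T : Fin N → Fin N → A

/-- the equations -/
def Mem (D : Datum N A) (f : MvPolynomial (Fin N) A) : Prop :=
  f.coeff 0 = 0 ∧ (∀ i, ∀ j < D.o i, co f i j = 0) ∧
    ∀ q ∉ D.P, co f q (D.o q) = ∑ p ∈ D.P, D.T p q * co f p (D.o p)

theorem mem_mul_X (D : Datum N A) {f : MvPolynomial (Fin N) A} (hf : Mem D f) (l : Fin N) :
    Mem D (f * X l) := by
  classical
  have h0 : (f * X l).coeff 0 = 0 := by simp [coeff_mul_X']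
  have hco : ∀ i j, j ≤ D.o i → co (f * X l) i j = 0 := by
    intro i j hj
    rw [co, coeff_mul_X']
    split_ifs with h
    · rw [Finsupp.mem_support_iff] at h
      obtain rfl : l = i := by
        by_contra hne
        exact h (by simp [Finsupp.single_apply, Ne.symm hne])
      rcases j with _ | j
      · simp at h
      rw [← Finsupp.single_tsub]
      exact hf.2.1 l j (by omega)
    · rfl
  exact ⟨h0, fun i j hj => hco i j hj.le, fun q _ => by
    rw [hco q _ le_rfl]
    exact (Finset.sum_eq_zero fun p _ => by rw [hco p _ le_rfl, mul_zero]).symm⟩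

/-- the ideal of a datum -/
noncomputable def ideal (D : Datum N A) : Ideal (MvPolynomial (Fin N) A) where
  carrier := {f | Mem D f}
  add_mem' {a b} ha hb := by
    refine ⟨by simp [ha.1, hb.1], fun i j hj => ?_, fun q hq => ?_⟩
    · simp only [co, coeff_add] at *
      rw [show coeff (Finsupp.single i j) a = 0 from ha.2.1 i j hj,
        show coeff (Finsupp.single i j) b = 0 from hb.2.1 i j hj, add_zero]
    · have h1 := ha.2.2 q hq
      have h2 := hb.2.2 q hq
      simp only [co, coeff_add] at *
      simp only [mul_add, Finset.sum_add_distrib, h1, h2]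
  zero_mem' := ⟨by simp, fun i j _ => by simp [co], fun q _ => by simp [co]⟩
  smul_mem' g f hf := by
    show Mem D (g * f)
    induction g using MvPolynomial.induction_on with
    | C c =>
      refine ⟨by simp [hf.1], fun i j hj => ?_, fun q hq => ?_⟩
      · simp [co, show coeff (Finsupp.single i j) f = 0 from hf.2.1 i j hj]
      · have h1 := hf.2.2 q hq
        simp only [co, coeff_C_mul] at *
        rw [h1, Finset.mul_sum]
        exact Finset.sum_congr rfl fun p _ => by ring
    | add p r hp hr =>
      rw [add_mul]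
      refine ⟨by simp [hp.1, hr.1], fun i j hj => ?_, fun q hq => ?_⟩
      · simp only [co, coeff_add] at *
        rw [show coeff (Finsupp.single i j) (p * f) = 0 from hp.2.1 i j hj,
          show coeff (Finsupp.single i j) (r * f) = 0 from hr.2.1 i j hj, add_zero]
      · have h1 := hp.2.2 q hq
        have h2 := hr.2.2 q hq
        simp only [co, coeff_add] at *
        simp only [mul_add, Finset.sum_add_distrib, h1, h2]
    | mul_X p l hp => rw [mul_right_comm]; exact mem_mul_X D hp l

theorem mem_ideal {D : Datum N A} {f : MvPolynomial (Fin N) A} : f ∈ ideal D ↔ Mem D f := Iff.rfl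

theorem mixed_mem (D : Datum N A) (m : Fin N →₀ ℕ) (h0 : m ≠ 0) (h : ∀ i j, m ≠ Finsupp.single i j) (c : A) :
    monomial m c ∈ ideal D := by
  classical
  refine ⟨by simp [coeff_monomial, h0], fun i j _ => by simp [co, coeff_monomial, h i j], fun q _ => ?_⟩
  simp [co, coeff_monomial, h]

theorem X_mul_X_mem (D : Datum N A) {i j : Fin N} (h : i ≠ j) : X i * X j ∈ ideal D := by
  rw [X, X, monomial_mul, one_mul]
  refine mixed_mem D _ (fun e => ?_) (fun l m e => ?_) 1
  · simpa [Finsupp.single_apply, Ne.symm h] using DFunLike.congr_fun e i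
  · have h1 := DFunLike.congr_fun e i
    have h2 := DFunLike.congr_fun e j
    by_cases hli : l = i
    · subst hli; simp [Finsupp.single_apply, h, Ne.symm h] at h2
    · simp [Finsupp.single_apply, h, Ne.symm h, hli] at h1

theorem X_pow_mem (D : Datum N A) (i : Fin N) {e : ℕ} (he : D.o i < e) : X i ^ e ∈ ideal D := by
  classical
  rw [X_pow_eq_monomial]
  have hne : ∀ l j, j ≤ D.o l → Finsupp.single i e ≠ Finsupp.single l j := by
    intro l j hj hh
    have := DFunLike.congr_fun hh i
    simp only [Finsupp.single_eq_same] at this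
    rcases eq_or_ne l i with rfl | hne
    · simp at this; omega
    · simp [Finsupp.single_apply, hne] at this; omega
  refine ⟨by simp [coeff_monomial, Finsupp.single_eq_zero]; omega,
    fun l j hj => by simp [co, coeff_monomial, hne l j hj.le], fun q _ => ?_⟩
  simp [co, coeff_monomial, hne _ _ le_rfl]

section Quotient

variable (D : Datum N A)

/-- the index type of the basis of the quotient -/
abbrev BIdx : Type := Option (Σ i : Fin N, Fin (D.o i - 1)) ⊕ {q : Fin N // q ∉ D.P}

/-- the monomials of the basis -/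
noncomputable def bMon : BIdx D → MvPolynomial (Fin N) A
  | .inl none => 1
  | .inl (some ⟨i, j⟩) => X i ^ ((j : ℕ) + 1)
  | .inr q => X q.1 ^ D.o q.1

/-- the coordinates on the quotient -/
noncomputable def coord : MvPolynomial (Fin N) A →ₗ[A] BIdx D → A where
  toFun f b := match b with
    | .inl none => f.coeff 0
    | .inl (some ⟨i, j⟩) => co f i ((j : ℕ) + 1)
    | .inr q => co f q.1 (D.o q.1) - ∑ p ∈ D.P, D.T p q.1 * co f p (D.o p)
  map_add' f g := by
    ext b
    rcases b with (_ | ⟨i, j⟩) | q <;> simp [co, mul_add, Finset.sum_add_distrib]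
    ring
  map_smul' c f := by
    ext b
    rcases b with (_ | ⟨i, j⟩) | q <;> simp [co, mul_sub, Finset.mul_sum]
    exact Finset.sum_congr rfl fun p _ => by ring

theorem mem_iff_coord {f : MvPolynomial (Fin N) A} : f ∈ ideal D ↔ coord D f = 0 := by
  constructor
  · intro hf
    funext b
    rcases b with (_ | ⟨i, j⟩) | q
    · exact hf.1
    · exact hf.2.1 i _ (by have := j.2; omega)
    · exact sub_eq_zero.2 (hf.2.2 q.1 q.2)
  · intro h
    refine ⟨congrFun h (.inl none), fun i j hj => ?_, fun q hq => sub_eq_zero.1 (congrFun h (.inr ⟨q, hq⟩))⟩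
    rcases j with _ | j
    · rw [co_zero]; exact congrFun h (.inl none)
    · exact congrFun h (.inl (some ⟨i, ⟨j, by omega⟩⟩))

theorem coord_bMon (b : BIdx D) : coord D (bMon D b) = Pi.single b 1 := by
  classical
  funext c
  have hs : ∀ (i l : Fin N) (a j : ℕ), 0 < a →
      co (X i ^ a : MvPolynomial (Fin N) A) l j = if i = l ∧ a = j then 1 else 0 := by
    intro i l a j ha
    simp only [co, X_pow_eq_monomial, coeff_monomial]
    congr 1
    rw [Finsupp.single_eq_single_iff]
    simp [ha.ne']
  have hc0 : ∀ (i : Fin N) (a : ℕ), 0 < a → (X i ^ a : MvPolynomial (Fin N) A).coeff 0 = 0 := by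
    intro i a ha
    simp [X_pow_eq_monomial, coeff_monomial, ha.ne']
  have h1 : ∀ (l : Fin N) (j : ℕ), co (1 : MvPolynomial (Fin N) A) l j = if j = 0 then 1 else 0 := by
    intro l j; simp [co, coeff_one, eq_comm]
  have ho := D.opos
  rcases b with (_ | ⟨i, j⟩) | q <;> rcases c with (_ | ⟨l, m⟩) | r
  · simp [coord, bMon, Pi.single_apply]
  · simp [coord, bMon, Pi.single_apply, h1]
  · simp [coord, bMon, Pi.single_apply, h1, (ho _).ne']
  · simp [coord, bMon, Pi.single_apply, hc0]
  · show co (X i ^ ((j : ℕ) + 1)) l ((m : ℕ) + 1) = _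
    rw [hs _ _ _ _ (Nat.succ_pos _), Pi.single_apply]
    by_cases hil : i = l
    · subst hil
      simp [Fin.val_inj, eq_comm]
    · simp [hil, Ne.symm hil]
  · show co (X i ^ ((j : ℕ) + 1)) r.1 (D.o r.1) - ∑ p ∈ D.P, D.T p r.1 * co (X i ^ ((j : ℕ) + 1)) p (D.o p) = _
    have hz : ∀ l, co (X i ^ ((j : ℕ) + 1) : MvPolynomial (Fin N) A) l (D.o l) = 0 := by
      intro l; rw [hs _ _ _ _ (Nat.succ_pos _), if_neg]
      rintro ⟨rfl, e⟩; have := j.2; omega
    simp [hz, Pi.single_apply]
  · simp [coord, bMon, Pi.single_apply, hc0, ho]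
  · show co (X q.1 ^ D.o q.1) l ((m : ℕ) + 1) = _
    rw [hs _ _ _ _ (ho _), if_neg (by rintro ⟨rfl, e⟩; have := m.2; omega)]
    simp [Pi.single_apply]
  · show co (X q.1 ^ D.o q.1) r.1 (D.o r.1) - ∑ p ∈ D.P, D.T p r.1 * co (X q.1 ^ D.o q.1) p (D.o p) = _
    rw [hs _ _ _ _ (ho _), Finset.sum_eq_zero fun p hp => by
      rw [hs _ _ _ _ (ho _), if_neg (fun h : q.1 = p ∧ _ => q.2 (h.1 ▸ hp)), mul_zero]]
    rw [Pi.single_apply, sub_zero]
    rcases eq_or_ne q r with rfl | hqr
    · simp
    · have : q.1 ≠ r.1 := fun h => hqr (Subtype.ext h)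
      simp [this, Ne.symm hqr]

/-- the section of the coordinates -/
noncomputable def sect (c : BIdx D → A) : MvPolynomial (Fin N) A := ∑ b, C (c b) * bMon D b

theorem coord_sect (c : BIdx D → A) : coord D (sect D c) = c := by
  classical
  rw [sect, map_sum]
  funext l
  simp only [Finset.sum_apply, C_mul', map_smul, coord_bMon, Pi.smul_apply, smul_eq_mul]
  simp [Pi.single_apply]

theorem sub_sect_mem (f : MvPolynomial (Fin N) A) : f - sect D (coord D f) ∈ ideal D := by
  rw [mem_iff_coord, map_sub, coord_sect, sub_self]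

/-- the quotient by the ideal is free -/
noncomputable def quotBasis : Module.Basis (BIdx D) A (MvPolynomial (Fin N) A ⧸ ideal D) :=
  Module.Basis.ofEquivFun
    ((Submodule.Quotient.restrictScalarsEquiv A (ideal D)).symm ≪≫ₗ
      (Submodule.quotEquivOfEq _ _ (SetLike.ext fun _ => (mem_iff_coord D).trans LinearMap.mem_ker.symm)) ≪≫ₗ
      LinearMap.quotKerEquivOfSurjective (coord D) fun c => ⟨sect D c, coord_sect D c⟩)

theorem card_BIdx : Fintype.card (BIdx D) + D.P.card = 1 + ∑ i, D.o i := by
  have h : ∑ i : Fin N, (D.o i - 1) + N = ∑ i, D.o i := by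
    conv_lhs => arg 2; rw [← Fintype.card_fin N, ← Finset.card_univ, Finset.card_eq_sum_ones]
    rw [← Finset.sum_add_distrib]
    exact Finset.sum_congr rfl fun i _ => Nat.sub_add_cancel (D.opos i)
  simp only [BIdx, Fintype.card_sum, Fintype.card_option, Fintype.card_sigma, Fintype.card_fin,
    Fintype.card_subtype_compl, Fintype.card_coe]
  have := D.P.card_le_univ
  simp at this
  omega

end Quotient

section BaseChange

variable {B : Type v} [CommRing B] (φ : A →+* B)

/-- extension of scalars of data -/
def Datum.map (D : Datum N A) : Datum N B := ⟨D.o, D.opos, D.P, fun p q => φ (D.T p q)⟩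

theorem coord_map (D : Datum N A) (f : MvPolynomial (Fin N) A) (b : BIdx D) :
    coord (D.map φ) (MvPolynomial.map φ f) b = φ (coord D f b) := by
  rcases b with (_ | ⟨i, j⟩) | q
  · simp [coord, coeff_map]
  · exact MvPolynomial.coeff_map φ f _
  · show _ - _ = φ (_ - _)
    simp [co, coeff_map, Datum.map, map_sum]

theorem map_ideal (D : Datum N A) : (ideal D).map (MvPolynomial.map φ) = ideal (D.map φ) := by
  refine le_antisymm (Ideal.map_le_iff_le_comap.2 fun f hf => ?_) fun g hg => ?_
  · rw [Ideal.mem_comap, mem_iff_coord]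
    funext b
    rw [show coord (D.map φ) (MvPolynomial.map φ f) b = φ (coord D f b) from coord_map φ D f b,
      (mem_iff_coord D).1 hf]
    exact map_zero φ
  · have key : ∀ g : MvPolynomial (Fin N) B,
        g - sect (D.map φ) (coord (D.map φ) g) ∈ (ideal D).map (MvPolynomial.map φ) := by
      intro g
      induction g using MvPolynomial.induction_on' with
      | monomial m c =>
        have h1 := Ideal.mem_map_of_mem (MvPolynomial.map φ) (sub_sect_mem D (monomial m (1 : A)))
        have e1 : MvPolynomial.map φ (sect D (coord D (monomial m (1 : A)))) =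
            sect (D.map φ) (coord (D.map φ) (MvPolynomial.map φ (monomial m (1 : A)))) := by
          simp only [sect, map_sum, map_mul, map_C]
          refine Finset.sum_congr rfl fun b _ => ?_
          rw [coord_map]
          congr 1
          rcases b with (_ | ⟨i, j⟩) | q <;> simp [bMon, Datum.map]
        rw [map_sub, e1, map_monomial, map_one] at h1
        have h2 := Ideal.mul_mem_left _ (C c) h1
        have e2 : sect (D.map φ) (coord (D.map φ) (monomial m c)) =
            C c * sect (D.map φ) (coord (D.map φ) (monomial m 1)) := by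
          rw [show monomial m c = c • monomial m (1 : B) by rw [smul_monomial, smul_eq_mul, mul_one], map_smul]
          simp only [sect, Finset.mul_sum, Pi.smul_apply, smul_eq_mul, map_mul, mul_assoc]
        rw [e2]
        convert h2 using 1
        rw [mul_sub, C_mul_monomial, mul_one]
      | add p q hp hq =>
        have : sect (D.map φ) (coord (D.map φ) (p + q)) =
            sect (D.map φ) (coord (D.map φ) p) + sect (D.map φ) (coord (D.map φ) q) := by
          rw [map_add]; simp [sect, add_mul, Finset.sum_add_distrib]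
        rw [this, add_sub_add_comm]
        exact add_mem hp hq
    have := key g
    rw [(mem_iff_coord _).1 hg] at this
    simpa [sect] using this

end BaseChange

section Field

variable {K : Type u} [Field K]

/-- a datum in normal form, with support `E` -/
structure IsNormal (D : Datum N K) (E : Finset (Fin N × Fin N)) : Prop where
  supp : ∀ p q, D.T p q ≠ 0 ↔ (p, q) ∈ E
  shape : ∀ e ∈ E, e.1 ∈ D.P ∧ e.2 ∉ D.P ∧ e.1 < e.2
  cover : ∀ q ∉ D.P, ∃ p, (p, q) ∈ E

/-- the element with leading vector attached to a pivot -/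
noncomputable def pivElt (D : Datum N K) (p : Fin N) : MvPolynomial (Fin N) K :=
  X p ^ D.o p + ∑ q ∈ Finset.univ \ D.P, C (D.T p q) * X q ^ D.o q

theorem co_pivElt (D : Datum N K) {p : Fin N} (hp : p ∈ D.P) (l : Fin N) (j : ℕ) :
    co (pivElt D p) l j = if j = D.o l then (if l = p then 1 else if l ∈ D.P then 0 else D.T p l) else 0 := by
  classical
  have hs : ∀ (i : Fin N) (a : ℕ), 0 < a →
      co (X i ^ a : MvPolynomial (Fin N) K) l j = if i = l ∧ a = j then 1 else 0 := by
    intro i a ha
    simp only [co, X_pow_eq_monomial, coeff_monomial]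
    congr 1
    rw [Finsupp.single_eq_single_iff]
    simp [ha.ne']
  simp only [co] at hs
  simp only [co, pivElt, coeff_add, coeff_sum, coeff_C_mul, hs _ _ (D.opos _)]
  by_cases hj : j = D.o l
  · subst hj
    rw [if_pos rfl]
    rcases eq_or_ne l p with rfl | hlp
    · rw [if_pos ⟨rfl, rfl⟩, if_pos rfl, Finset.sum_eq_zero, add_zero]
      intro q hq
      rw [if_neg (fun h : q = l ∧ _ => (Finset.mem_sdiff.1 hq).2 (h.1 ▸ hp)), mul_zero]
    · rw [if_neg (fun h => hlp h.1.symm), if_neg hlp, zero_add]
      by_cases hl : l ∈ D.P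
      · rw [if_pos hl]
        exact Finset.sum_eq_zero fun q hq => by
          rw [if_neg (fun h : q = l ∧ _ => (Finset.mem_sdiff.1 hq).2 (h.1 ▸ hl)), mul_zero]
      · rw [if_neg hl, Finset.sum_eq_single l]
        · rw [if_pos ⟨rfl, rfl⟩, mul_one]
        · intro q _ hq; rw [if_neg (fun h => hq h.1), mul_zero]
        · intro h; exact absurd (Finset.mem_sdiff.2 ⟨Finset.mem_univ _, hl⟩) h
  · rw [if_neg hj, if_neg (by rintro ⟨rfl, e⟩; exact hj e.symm), zero_add]
    exact Finset.sum_eq_zero fun q _ => by rw [if_neg (by rintro ⟨rfl, e⟩; exact hj e.symm), mul_zero]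

theorem pivElt_mem (D : Datum N K) {p : Fin N} (hp : p ∈ D.P) : pivElt D p ∈ ideal D := by
  refine ⟨?_, fun i j hj => by rw [co_pivElt D hp, if_neg hj.ne], fun q hq => ?_⟩
  · rw [← co_zero _ p, co_pivElt D hp, if_neg (D.opos p).ne]
  · rw [co_pivElt D hp, if_pos rfl, if_neg (fun h : q = p => hq (h ▸ hp)), if_neg hq,
      Finset.sum_eq_single p]
    · rw [co_pivElt D hp, if_pos rfl, if_pos rfl, mul_one]
    · intro p' hp' hne; rw [co_pivElt D hp, if_pos rfl, if_neg hne, if_pos hp', mul_zero]
    · exact fun h => absurd hp h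

theorem exists_coeff_ne_zero {D : Datum N K} {E : Finset (Fin N × Fin N)} (h : IsNormal D E) (i : Fin N) :
    ∃ f ∈ ideal D, co f i (D.o i) ≠ 0 := by
  by_cases hi : i ∈ D.P
  · exact ⟨_, pivElt_mem D hi, by rw [co_pivElt D hi, if_pos rfl, if_pos rfl]; exact one_ne_zero⟩
  · obtain ⟨p, hp⟩ := h.cover i hi
    obtain ⟨hpP, -, -⟩ := h.shape _ hp
    exact ⟨_, pivElt_mem D hpP, by
      rw [co_pivElt D hpP, if_pos rfl, if_neg (fun e : i = p => hi (e ▸ hpP)), if_neg hi]
      exact (h.supp p i).2 hp⟩

theorem o_eq {D D' : Datum N K} {E E' : Finset (Fin N × Fin N)} (h : IsNormal D E) (h' : IsNormal D' E')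
    (e : ideal D = ideal D') : D.o = D'.o := by
  funext i
  refine le_antisymm ?_ ?_
  · by_contra hlt
    obtain ⟨f, hf, hf0⟩ := exists_coeff_ne_zero h' i
    rw [← e] at hf
    exact hf0 (hf.2.1 i _ (not_le.1 hlt))
  · by_contra hlt
    obtain ⟨f, hf, hf0⟩ := exists_coeff_ne_zero h i
    rw [e] at hf
    exact hf0 (hf.2.1 i _ (not_le.1 hlt))

/-- the first nonzero leading coordinate of a member is a pivot -/
theorem pivot_iff {D : Datum N K} {E : Finset (Fin N × Fin N)} (h : IsNormal D E) (p : Fin N) :
    p ∈ D.P ↔ ∃ f ∈ ideal D, co f p (D.o p) ≠ 0 ∧ ∀ q < p, co f q (D.o q) = 0 := by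
  constructor
  · intro hp
    refine ⟨_, pivElt_mem D hp, by rw [co_pivElt D hp, if_pos rfl, if_pos rfl]; exact one_ne_zero, fun q hq => ?_⟩
    rw [co_pivElt D hp, if_pos rfl, if_neg hq.ne]
    split_ifs with hqP
    · rfl
    · by_contra hne
      exact absurd (h.shape _ ((h.supp p q).1 hne)).2.2 (not_lt.2 hq.le)
  · rintro ⟨f, hf, hfp, hfq⟩
    by_contra hp
    refine hfp ?_
    rw [hf.2.2 p hp]
    refine Finset.sum_eq_zero fun l hl => ?_
    by_cases hT : D.T l p = 0
    · rw [hT, zero_mul]
    · rw [hfq l (h.shape _ ((h.supp l p).1 hT)).2.2, mul_zero]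

theorem eq_of_ideal_eq {D D' : Datum N K} {E E' : Finset (Fin N × Fin N)} (h : IsNormal D E)
    (h' : IsNormal D' E') (e : ideal D = ideal D') : D = D' ∧ E = E' := by
  have ho := o_eq h h' e
  have hP : D.P = D'.P := Finset.ext fun p => by rw [pivot_iff h, pivot_iff h', e, ho]
  have hT : D.T = D'.T := by
    funext p q
    by_cases hpq : p ∈ D.P ∧ q ∉ D.P
    · have hmem := pivElt_mem D hpq.1
      rw [e] at hmem
      have := hmem.2.2 q (hP ▸ hpq.2)
      rw [← ho, ← hP, co_pivElt D hpq.1, if_pos rfl, if_neg (fun e' : q = p => hpq.2 (e' ▸ hpq.1)),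
        if_neg hpq.2, Finset.sum_eq_single p] at this
      · rw [co_pivElt D hpq.1, if_pos rfl, if_pos rfl, mul_one] at this
        exact this
      · intro p' hp' hne; rw [co_pivElt D hpq.1, if_pos rfl, if_neg hne, if_pos hp', mul_zero]
      · exact fun hh => absurd hpq.1 hh
    · have h1 : D.T p q = 0 := by
        by_contra hne
        exact hpq ⟨(h.shape _ ((h.supp p q).1 hne)).1, (h.shape _ ((h.supp p q).1 hne)).2.1⟩
      have h2 : D'.T p q = 0 := by
        by_contra hne
        exact hpq ⟨hP ▸ (h'.shape _ ((h'.supp p q).1 hne)).1, hP ▸ (h'.shape _ ((h'.supp p q).1 hne)).2.1⟩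
      rw [h1, h2]
  refine ⟨?_, Finset.ext fun ⟨p, q⟩ => by rw [← h.supp, ← h'.supp, hT]⟩
  cases D; cases D'; simp_all

/-- **Classification.** An ideal at the origin containing the mixed monomials and the `n`-th powers of
the variables is the ideal of a normal datum. -/
theorem exists_datum (I : Ideal (MvPolynomial (Fin N) K)) (hmix : ∀ i j : Fin N, i ≠ j → X i * X j ∈ I)
    {n : ℕ} (hpow : ∀ i, X i ^ n ∈ I) (hne : I ≠ ⊤) :
    ∃ (D : Datum N K) (E : Finset (Fin N × Fin N)), IsNormal D E ∧ ideal D = I ∧ ∀ i, D.o i ≤ n := by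
  classical
  have hrad : ∀ i, X i ∈ I.radical := fun i => ⟨n, hpow i⟩
  -- the constant term vanishes
  have hspan : Ideal.span (Set.range (X : Fin N → MvPolynomial (Fin N) K)) ≤ I.radical :=
    Ideal.span_le.2 fun _ ⟨i, hi⟩ => hi ▸ hrad i
  have hconst : ∀ f : MvPolynomial (Fin N) K,
      f - C (f.coeff 0) ∈ Ideal.span (Set.range (X : Fin N → MvPolynomial (Fin N) K)) := by
    intro f
    induction f using MvPolynomial.induction_on with
    | C c => simp
    | add p q hp hq => rw [coeff_add, map_add, add_sub_add_comm]; exact add_mem hp hq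
    | mul_X p i _ =>
      rw [show MvPolynomial.coeff (0 : Fin N →₀ ℕ) (p * X i) = 0 by simp [coeff_mul_X'], map_zero, sub_zero]
      exact Ideal.mul_mem_left _ _ (Ideal.subset_span ⟨i, rfl⟩)
  have hc0 : ∀ f ∈ I, f.coeff 0 = 0 := by
    intro f hf
    by_contra hc
    have h1 : C (f.coeff 0) ∈ I.radical := by
      have := sub_mem (Ideal.le_radical hf) (hspan (hconst f))
      simpa using this
    exact hne (Ideal.radical_eq_top.1 ((Ideal.eq_top_of_isUnit_mem _ h1 ((isUnit_iff_ne_zero.2 hc).map C))))
  have hn : 0 < n ∨ N = 0 := by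
    rcases Nat.eq_zero_or_pos n with rfl | h
    · refine Or.inr ?_
      by_contra hN
      exact hne ((Ideal.eq_top_iff_one I).2 (by simpa using hpow ⟨0, Nat.pos_of_ne_zero hN⟩))
    · exact Or.inl h
  have hmono : ∀ (m : Fin N →₀ ℕ) (c : K), m ≠ 0 → (∀ i j, m ≠ Finsupp.single i j) → monomial m c ∈ I := by
    intro m c h0 h1
    obtain ⟨i, hi⟩ : ∃ i, m i ≠ 0 := by
      by_contra hh; push_neg at hh; exact h0 (Finsupp.ext hh)
    obtain ⟨j, hji, hj⟩ : ∃ j, j ≠ i ∧ m j ≠ 0 := by
      by_contra hh
      push_neg at hh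
      refine h1 i (m i) (Finsupp.ext fun l => ?_)
      rcases eq_or_ne l i with rfl | hl
      · simp
      · simp [hl, hh l hl]
    have hle : Finsupp.single i 1 + Finsupp.single j 1 ≤ m := by
      intro l
      simp only [Finsupp.add_apply, Finsupp.single_apply]
      rcases eq_or_ne i l with rfl | hil
      · simp [hji]; omega
      · rcases eq_or_ne j l with rfl | hjl
        · simp [hil]; omega
        · simp [hil, hjl]
    have : monomial m c = monomial (m - (Finsupp.single i 1 + Finsupp.single j 1)) c * (X i * X j) := by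
      rw [X, X, monomial_mul, monomial_mul, one_mul, mul_one, tsub_add_cancel_of_le hle]
    rw [this]
    exact Ideal.mul_mem_left _ _ (hmix i j (Ne.symm hji))
  have hex : ∀ i, ∃ j, ∃ f ∈ I, co f i j ≠ 0 := fun i => ⟨n, X i ^ n, hpow i, by
    simp [co, X_pow_eq_monomial, coeff_monomial]⟩
  let o : Fin N → ℕ := fun i => Nat.find (hex i)
  have hole : ∀ i, o i ≤ n := fun i => Nat.find_min' (hex i) ⟨X i ^ n, hpow i, by
    simp [co, X_pow_eq_monomial, coeff_monomial]⟩
  have holow : ∀ f ∈ I, ∀ i, ∀ j < o i, co f i j = 0 := fun f hf i j hj => by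
    by_contra h; exact Nat.find_min (hex i) hj ⟨f, hf, h⟩
  have hopos : ∀ i, 0 < o i := fun i => by
    obtain ⟨f, hf, h⟩ := Nat.find_spec (hex i)
    by_contra h0
    change co f i (o i) ≠ 0 at h
    rw [show o i = 0 by omega, co_zero, hc0 f hf] at h
    exact h rfl
  -- higher powers of the variables
  have hbig : ∀ i e, o i < e → X i ^ e ∈ I := by
    intro i e he
    obtain ⟨f, hf, hne'⟩ := Nat.find_spec (hex i)
    change co f i (o i) ≠ 0 at hne'
    let g := f - ∑ m ∈ f.support.filter (fun m => ∀ j, m ≠ Finsupp.single i j), monomial m (coeff m f)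
    have hg : X i * f - X i * g ∈ I := by
      rw [← mul_sub, sub_sub_cancel, Finset.mul_sum]
      refine sum_mem fun m hm => ?_
      rw [Finset.mem_filter] at hm
      rw [X, monomial_mul, one_mul]
      have hm0 : m ≠ 0 := fun h => by
        rw [h, mem_support_iff, hc0 f hf] at hm; exact hm.1 rfl
      refine hmono _ _ (fun h => ?_) fun l j h => ?_
      · simpa [Finsupp.single_apply] using DFunLike.congr_fun h i
      · have hl : l = i := by
          by_contra hli
          simpa [Finsupp.single_apply, hli] using DFunLike.congr_fun h i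
        subst hl
        refine hm.2 (j - 1) (Finsupp.ext fun x => ?_)
        have := DFunLike.congr_fun h x
        rcases eq_or_ne l x with rfl | hx
        · simp at this ⊢; omega
        · simp [Finsupp.single_apply, hx] at this ⊢; omega
    have hgI : X i * g ∈ I := by
      have := sub_mem (Ideal.mul_mem_left I (X i) hf) hg
      rwa [sub_sub_cancel] at this
    -- `g` is a polynomial in `X i` of order `o i`
    have hg2 : ∃ v, g = (C (co f i (o i)) + X i * v) * X i ^ o i := by
      have hsupp : ∀ m, coeff m g = if (∃ j, m = Finsupp.single i j) then coeff m f else 0 := by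
        intro m
        simp only [g, coeff_sub, coeff_sum, coeff_monomial, Finset.sum_ite_eq', Finset.mem_filter]
        by_cases hm : ∃ j, m = Finsupp.single i j
        · rw [if_pos hm, if_neg (fun h => let ⟨j, hj⟩ := hm; h.2 j hj), sub_zero]
        · rw [if_neg hm]
          push_neg at hm
          by_cases hms : m ∈ f.support
          · rw [if_pos ⟨hms, hm⟩, sub_self]
          · rw [if_neg (fun h => hms h.1), notMem_support_iff.1 hms, sub_self]
      refine ⟨∑ j ∈ Finset.range (f.totalDegree + 1), if o i < j then C (co f i j) * X i ^ (j - o i - 1) else 0, ?_⟩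
      rw [add_mul, Finset.mul_sum, Finset.sum_mul]
      ext m
      rw [hsupp]
      simp only [coeff_add, coeff_sum]
      have e1 : ∀ j, o i < j → X i * (C (co f i j) * X i ^ (j - o i - 1)) * X i ^ o i = C (co f i j) * X i ^ j := by
        intro j hj
        rw [mul_left_comm (X i), mul_assoc, mul_assoc, ← pow_add, ← pow_succ']
        congr 2; omega
      have e2 : ∀ j, (if o i < j then C (co f i j) * X i ^ (j - o i - 1) else 0 : MvPolynomial (Fin N) K) =
          if o i < j then C (co f i j) * X i ^ (j - o i - 1) else 0 := fun _ => rfl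
      rw [Finset.sum_congr rfl fun j _ => show coeff m (X i * (if o i < j then C (co f i j) *
          X i ^ (j - o i - 1) else 0) * X i ^ o i) = if o i < j then coeff m (C (co f i j) * X i ^ j) else 0 by
        split_ifs with h
        · rw [e1 j h]
        · simp]
      simp only [coeff_C_mul, X_pow_eq_monomial, coeff_monomial, mul_ite, mul_one, mul_zero]
      by_cases hm : ∃ j, m = Finsupp.single i j
      · obtain ⟨j, rfl⟩ := hm
        rw [if_pos ⟨j, rfl⟩]
        have hinj : ∀ a, (Finsupp.single i a = Finsupp.single i j) ↔ a = j :=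
          fun a => (Finsupp.single_injective i).eq_iff
        simp only [hinj]
        rcases lt_trichotomy j (o i) with hj | hj | hj
        · rw [show coeff (Finsupp.single i j) f = 0 from holow f hf i j hj, if_neg hj.ne', zero_add]
          exact (Finset.sum_eq_zero fun a _ => by split_ifs <;> first | rfl | omega).symm
        · subst hj
          rw [if_pos rfl, Finset.sum_eq_zero fun a _ => by split_ifs <;> first | rfl | omega, add_zero]
          rfl
        · rw [if_neg hj.ne, zero_add, Finset.sum_eq_single j]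
          · rw [if_pos hj, if_pos rfl]; rfl
          · intro a _ ha; split_ifs <;> first | rfl | omega
          · intro hjr
            rw [if_pos hj, if_pos rfl]
            show coeff (Finsupp.single i j) f = 0
            refine notMem_support_iff.1 fun hs => hjr (Finset.mem_range.2 (Nat.lt_succ_of_le ?_))
            have := le_totalDegree hs
            simpa [Finsupp.sum_single_index] using this
      · rw [if_neg hm]
        push_neg at hm
        rw [if_neg (Ne.symm (hm _)), zero_add]
        exact (Finset.sum_eq_zero fun a _ => by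
          split_ifs with h h' <;> first | rfl | exact absurd h'.symm (hm a)).symm
    obtain ⟨v, hv⟩ := hg2
    have hu : IsUnit (Ideal.Quotient.mk I (C (co f i (o i)) + X i * v)) := by
      rw [map_add, map_mul]
      refine IsNilpotent.isUnit_add_left_of_commute ?_ (((isUnit_iff_ne_zero.2 hne').map C).map _) (Commute.all _ _)
      exact Commute.isNilpotent_mul_right (Commute.all _ _)
        ⟨n, by rw [← map_pow, Ideal.Quotient.eq_zero_iff_mem]; exact hpow i⟩
    have h1 : Ideal.Quotient.mk I (X i ^ (o i + 1)) = 0 := by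
      have : Ideal.Quotient.mk I (X i * g) = 0 := Ideal.Quotient.eq_zero_iff_mem.2 hgI
      rw [hv, mul_left_comm, ← pow_succ', map_mul] at this
      exact hu.mul_right_eq_zero.1 this
    rw [← Nat.add_sub_cancel' (Nat.succ_le_of_lt he), pow_add]
    exact Ideal.mul_mem_right _ _ (Ideal.Quotient.eq_zero_iff_mem.1 h1)
  -- membership in terms of the leading vectors
  have hred : ∀ f : MvPolynomial (Fin N) K, f.coeff 0 = 0 → (∀ i, ∀ j < o i, co f i j = 0) →
      f - ∑ i, C (co f i (o i)) * X i ^ o i ∈ I := by
    intro f h0 hl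
    have hterm : ∀ i, C (co f i (o i)) * X i ^ o i = monomial (Finsupp.single i (o i)) (co f i (o i)) := fun i => by
      rw [X_pow_eq_monomial, C_mul_monomial, mul_one]
    simp only [hterm]
    set g := f - ∑ i, monomial (Finsupp.single i (o i)) (co f i (o i)) with hg
    rw [g.as_sum]
    refine sum_mem fun m hm => ?_
    rw [mem_support_iff] at hm
    by_cases hm0 : m = 0
    · subst hm0
      refine absurd ?_ hm
      simp [hg, h0, coeff_sum, coeff_monomial, fun i => (hopos i).ne']
    by_cases hs : ∃ i j, m = Finsupp.single i j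
    · obtain ⟨i, j, rfl⟩ := hs
      have hj0 : j ≠ 0 := fun h => hm0 (by simp [h])
      have hcg : coeff (Finsupp.single i j) g = co f i j - if j = o i then co f i j else 0 := by
        simp only [hg, coeff_sub, coeff_sum, coeff_monomial, Finsupp.single_eq_single_iff]
        congr 1
        rw [Finset.sum_eq_single i]
        · by_cases h : j = o i
          · subst h; simp
          · simp [h, Ne.symm h, hj0]
        · intro l _ hl'; simp [hl', hj0]
        · simp
      rcases lt_trichotomy j (o i) with hj | hj | hj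
      · rw [hcg, hl i j hj] at hm; simp at hm
      · rw [hcg, if_pos hj, sub_self] at hm; exact absurd rfl hm
      · rw [← mul_one (coeff _ g), ← C_mul_monomial, ← X_pow_eq_monomial]
        exact Ideal.mul_mem_left _ _ (hbig i j hj)
    · push_neg at hs
      exact hmono m _ hm0 hs
  let W : Set (Fin N → K) := {w | ∑ i, C (w i) * X i ^ o i ∈ I}
  have hWsmul : ∀ (c : K) w, w ∈ W → (fun i => c * w i) ∈ W := fun c w hw => by
    show ∑ i, C (c * w i) * X i ^ o i ∈ I
    have := Ideal.mul_mem_left I (C c) hw
    rw [Finset.mul_sum] at this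
    simpa [mul_assoc] using this
  have hWsub : ∀ v w, v ∈ W → w ∈ W → (fun i => v i - w i) ∈ W := fun v w hv hw => by
    show ∑ i, C (v i - w i) * X i ^ o i ∈ I
    have := sub_mem (show ∑ i, C (v i) * X i ^ o i ∈ I from hv) (show ∑ i, C (w i) * X i ^ o i ∈ I from hw)
    rw [← Finset.sum_sub_distrib] at this
    simpa [map_sub, sub_mul] using this
  have hWcov : ∀ i, ∃ w ∈ W, w i ≠ 0 := by
    intro i
    obtain ⟨f, hf, hne'⟩ := Nat.find_spec (hex i)
    refine ⟨fun l => co f l (o l), ?_, hne'⟩
    have := sub_mem hf (hred f (hc0 f hf) (holow f hf))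
    rwa [sub_sub_cancel] at this
  let P : Finset (Fin N) := Finset.univ.filter fun p => ∃ w ∈ W, w p ≠ 0 ∧ ∀ q < p, w q = 0
  have hzero : ∀ w ∈ W, (∀ p ∈ P, w p = 0) → ∀ q, w q = 0 := by
    intro w hw hP q
    induction q using WellFoundedLT.induction with
    | _ q ih =>
      by_contra h
      exact h (hP q (Finset.mem_filter.2 ⟨Finset.mem_univ _, w, hw, h, ih⟩))
  have hpiv : ∀ p ∈ P, ∃ w ∈ W, w p = 1 ∧ (∀ q < p, w q = 0) ∧ ∀ p' ∈ P, p' ≠ p → w p' = 0 := by
    intro p
    induction p using WellFoundedGT.induction with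
    | _ p ih =>
      intro hp
      obtain ⟨u, hu, hup, huq⟩ := (Finset.mem_filter.1 hp).2
      -- clear the later pivots one after another
      have main : ∀ s : Finset (Fin N), (∀ p' ∈ s, p' ∈ P ∧ p < p') →
          ∃ w ∈ W, w p = 1 ∧ (∀ q < p, w q = 0) ∧ ∀ p' ∈ s, w p' = 0 := by
        intro s hs
        induction s using Finset.induction with
        | empty =>
          exact ⟨fun i => (u p)⁻¹ * u i, hWsmul _ _ hu, inv_mul_cancel₀ hup,
            fun q hq => by show (u p)⁻¹ * u q = 0; rw [huq q hq, mul_zero], by simp⟩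
        | insert a s has ih2 =>
          obtain ⟨w, hw, hw1, hw0, hws⟩ := ih2 fun p' hp' => hs p' (Finset.mem_insert_of_mem hp')
          obtain ⟨haP, hpa⟩ := hs a (Finset.mem_insert_self _ _)
          obtain ⟨v, hv, hv1, hv0, hvs⟩ := ih a hpa haP
          refine ⟨fun i => w i - w a * v i, hWsub _ _ hw (hWsmul _ _ hv), ?_, ?_, ?_⟩
          · show w p - w a * v p = 1; rw [hw1, hv0 p hpa, mul_zero, sub_zero]
          · intro q hq; show w q - w a * v q = 0; rw [hw0 q hq, hv0 q (hq.trans hpa), mul_zero, sub_zero]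
          · intro p' hp'
            show w p' - w a * v p' = 0
            rcases Finset.mem_insert.1 hp' with rfl | hp''
            · rw [hv1, mul_one, sub_self]
            · rw [hws p' hp'', hvs p' (hs p' hp').1 (fun e => has (e ▸ hp'')), mul_zero, sub_zero]
      obtain ⟨w, hw, hw1, hw0, hws⟩ := main (P.filter (p < ·)) fun p' hp' => Finset.mem_filter.1 hp'
      refine ⟨w, hw, hw1, hw0, fun p' hp' hne' => ?_⟩
      rcases lt_or_gt_of_ne hne' with h | h
      · exact hw0 p' h
      · exact hws p' (Finset.mem_filter.2 ⟨hp', h⟩)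
  choose v hvW hv1 hv0 hvP using hpiv
  let T : Fin N → Fin N → K := fun p q => if h : p ∈ P ∧ q ∉ P then v p h.1 q else 0
  let D : Datum N K := ⟨o, hopos, P, T⟩
  let E : Finset (Fin N × Fin N) := Finset.univ.filter fun e => T e.1 e.2 ≠ 0
  have hWiff : ∀ w, w ∈ W ↔ ∀ q ∉ P, w q = ∑ p ∈ P, T p q * w p := by
    have hcomb : ∀ c : Fin N → K, (fun i => ∑ p ∈ P.attach, c p.1 * v p.1 p.2 i) ∈ W := by
      intro c
      show ∑ i, C (∑ p ∈ P.attach, c p.1 * v p.1 p.2 i) * X i ^ o i ∈ I
      simp only [map_sum, Finset.sum_mul]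
      rw [Finset.sum_comm]
      exact sum_mem fun p _ => hWsmul (c p.1) _ (hvW p.1 p.2)
    intro w
    have hcombP : ∀ p₀ ∈ P, ∑ p ∈ P.attach, w p.1 * v p.1 p.2 p₀ = w p₀ := by
      intro p₀ hp₀
      rw [Finset.sum_eq_single ⟨p₀, hp₀⟩]
      · rw [hv1, mul_one]
      · intro p _ hne'; rw [hvP p.1 p.2 p₀ hp₀ (fun e => hne' (Subtype.ext e.symm)), mul_zero]
      · intro h; exact absurd (Finset.mem_attach _ _) h
    have hcombQ : ∀ q ∉ P, ∑ p ∈ P.attach, w p.1 * v p.1 p.2 q = ∑ p ∈ P, T p q * w p := by
      intro q hq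
      rw [← Finset.sum_attach P (fun p => T p q * w p)]
      exact Finset.sum_congr rfl fun p _ => by simp [T, p.2, hq, mul_comm]
    constructor
    · intro hw q hq
      have h := hzero _ (hWsub _ _ hw (hcomb w)) (fun p hp => by show w p - _ = 0; rw [hcombP p hp, sub_self]) q
      rw [← hcombQ q hq]
      exact sub_eq_zero.1 h
    · intro h
      convert hcomb w using 1
      funext i
      by_cases hi : i ∈ P
      · rw [hcombP i hi]
      · rw [hcombQ i hi, h i hi]
  refine ⟨D, E, ⟨fun p q => by simp [E, D], fun e he => ?_, fun q hq => ?_⟩, le_antisymm ?_ ?_, hole⟩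
  · have h : T e.1 e.2 ≠ 0 := (Finset.mem_filter.1 he).2
    simp only [T] at h
    split_ifs at h with hc
    · refine ⟨hc.1, hc.2, ?_⟩
      by_contra hlt
      rcases lt_or_eq_of_le (not_lt.1 hlt) with h' | h'
      · exact h (hv0 _ hc.1 _ h')
      · exact hc.2 (h' ▸ hc.1)
    · exact absurd rfl h
  · obtain ⟨w, hw, hwq⟩ := hWcov q
    by_contra hno
    push_neg at hno
    refine hwq ((hWiff w).1 hw q hq ▸ Finset.sum_eq_zero fun p _ => ?_)
    have : T p q = 0 := by
      by_contra h; exact hno p (Finset.mem_filter.2 ⟨Finset.mem_univ _, h⟩)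
    rw [this, zero_mul]
  · intro f hf
    have hw : (fun i => co f i (o i)) ∈ W := (hWiff _).2 hf.2.2
    have := add_mem (hred f hf.1 hf.2.1) (show ∑ i, C (co f i (o i)) * X i ^ o i ∈ I from hw)
    rwa [sub_add_cancel] at this
  · intro f hf
    refine ⟨hc0 f hf, holow f hf, (hWiff (fun i => co f i (o i))).1 ?_⟩
    have := sub_mem hf (hred f (hc0 f hf) (holow f hf))
    rwa [sub_sub_cancel] at this

end Field

end Groth.Agent.HilbZeta12.Axes
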