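import Groth.Prelude.Def_K0Var
import Groth.Agent.SchBasics.Reduced
import Mathlib.AlgebraicGeometry.Morphisms.QuasiSeparated
import Mathlib.AlgebraicGeometry.Noetherian

/-!
Classes in the Grothendieck ring computed along a stratification found by Noetherian induction.
-/

set_option autoImplicit false
set_option linter.style.haveILetI false

universe u

open CategoryTheory CategoryTheory.Limits AlgebraicGeometry TopologicalSpace

namespace Groth.Agent.HilbZeta12

/-- An immersion lifts morphisms from reduced schemes with image in its range. -/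
theorem exists_lift_reduced {X Y T : Scheme.{u}} (f : Y ⟶ X) [IsImmersion f] [IsReduced T] (g : T ⟶ X)
    (h : Set.range g ⊆ Set.range f) : ∃ l : T ⟶ Y, l ≫ f = g := by
  haveI hs : Surjective (pullback.snd f g) := ⟨fun t => by
    obtain ⟨y, hy⟩ := h ⟨t, rfl⟩
    obtain ⟨z, -, hz⟩ := Scheme.Pullback.exists_preimage_pullback y t hy
    exact ⟨z, hz⟩⟩
  haveI : IsClosedImmersion (pullback.snd f g) :=
    IsClosedImmersion.of_isPreimmersion _ (by rw [hs.surj.range_eq]; exact isClosed_univ)
  haveI := isIso_of_isClosedImmersion_of_surjective (pullback.snd f g)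
  exact ⟨inv (pullback.snd f g) ≫ pullback.fst f g, by
    rw [Category.assoc, pullback.condition, IsIso.inv_hom_id_assoc]⟩

/-- reduced closed subscheme on a closed set -/
theorem isReduced_vanishing {H : Scheme.{u}} (C : Closeds H) :
    IsReduced (Scheme.IdealSheafData.vanishingIdeal C).subscheme :=
  SchBasics.isReduced_subscheme_of_radical _ fun U => by
    rw [Scheme.IdealSheafData.vanishingIdeal_ideal]
    exact PrimeSpectrum.isRadical_vanishingIdeal _

theorem range_vanishing {H : Scheme.{u}} (C : Closeds H) :
    Set.range (Scheme.IdealSheafData.vanishingIdeal C).subschemeι = (C : Set H) :=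
  (Scheme.IdealSheafData.range_subschemeι _).trans (Scheme.IdealSheafData.coe_support_vanishingIdeal _)

/-- A nonempty reduced Noetherian scheme has a nonempty integral open subscheme. -/
theorem exists_integral_open (C : Scheme.{u}) [IsReduced C] [IsNoetherian C] [Nonempty C] :
    ∃ V : C.Opens, IsIntegral V.toScheme := by
  have hfin := NoetherianSpace.finite_irreducibleComponents (α := C)
  obtain ⟨x⟩ := ‹Nonempty C›
  let K := irreducibleComponent x
  have hK : K ∈ irreducibleComponents C := irreducibleComponent_mem_irreducibleComponents x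
  let V : C.Opens := ⟨(⋃₀ (irreducibleComponents C \ {K}))ᶜ,
    ((hfin.sdiff).isClosed_biUnion fun s hs => isClosed_of_mem_irreducibleComponents s hs.1) |> fun h => by
      rw [Set.sUnion_eq_biUnion]; exact h.isOpen_compl⟩
  have hVK : (V : Set C) ⊆ K := fun y hy => by
    by_contra hyK
    refine hy ⟨irreducibleComponent y, ⟨irreducibleComponent_mem_irreducibleComponents y, ?_⟩,
      mem_irreducibleComponent⟩
    intro h
    exact hyK (h ▸ mem_irreducibleComponent)
  have hne : (V : Set C).Nonempty := by
    by_contra h
    rw [Set.not_nonempty_iff_eq_empty] at h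
    have hsub : K ⊆ ⋃₀ (irreducibleComponents C \ {K}) := fun y _ => by
      by_contra hy
      exact (Set.eq_empty_iff_forall_notMem.1 h y) hy
    obtain ⟨z, hz, hKz⟩ := isIrreducible_iff_sUnion_isClosed.1 hK.1 (hfin.sdiff (t := {K})).toFinset
      (fun z hz => isClosed_of_mem_irreducibleComponents z ((Set.Finite.mem_toFinset _).1 hz).1)
      (by rwa [Set.Finite.coe_toFinset])
    rw [Set.Finite.mem_toFinset] at hz
    exact hz.2 (le_antisymm (hK.2 hz.1.1 hKz) hKz)
  refine ⟨V, ?_⟩
  haveI : IrreducibleSpace V.toScheme := by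
    have h2 : IsPreirreducible (V : Set C) := hK.1.2.open_subset V.2 hVK
    haveI := Subtype.irreducibleSpace (s := (V : Set C)) ⟨hne, h2⟩
    exact this
  haveI : IsReduced V.toScheme := isReduced_of_isOpenImmersion V.ι
  exact isIntegral_of_irreducibleSpace_of_isReduced _

variable {k : Type u} [Field k]

/-- classes of the two pieces after pullback along `g` -/
theorem cl_pullback_scissor {C Z U W H : Scheme.{u}} (h : H ⟶ Spec (CommRingCat.of k)) [LocallyOfFiniteType h]
    [QuasiCompact h] (c : C ⟶ H) [LocallyOfFiniteType c] [QuasiCompact c] (g : W ⟶ H)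
    [LocallyOfFiniteType g] [QuasiCompact g]
    (i : Z ⟶ C) [IsClosedImmersion i] (j : U ⟶ C) [IsOpenImmersion j] [QuasiCompact j]
    (hr : Set.range i = (Set.range j)ᶜ) :
    K0Var.cl (pullback.fst c g ≫ c ≫ h) =
      K0Var.cl (pullback.fst (i ≫ c) g ≫ (i ≫ c) ≫ h) + K0Var.cl (pullback.fst (j ≫ c) g ≫ (j ≫ c) ≫ h) := by
  let iX := pullback.map (i ≫ c) g c g i (𝟙 W) (𝟙 H) (by simp) (by simp)
  let jX := pullback.map (j ≫ c) g c g j (𝟙 W) (𝟙 H) (by simp) (by simp)
  haveI : IsOpenImmersion jX :=
    MorphismProperty.pullbackMap (P := @IsOpenImmersion) inferInstance inferInstance (by simp) (by simp)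
  haveI : IsClosedImmersion iX :=
    MorphismProperty.pullbackMap (P := @IsClosedImmersion) inferInstance inferInstance (by simp) (by simp)
  haveI : QuasiCompact jX :=
    MorphismProperty.pullbackMap (P := @QuasiCompact) inferInstance inferInstance (by simp) (by simp)
  have hrX : Set.range iX = (Set.range jX)ᶜ := by
    simp only [iX, jX]
    erw [Scheme.Pullback.range_map, Scheme.Pullback.range_map]
    rw [hr]
    simp
  rw [K0Var.cl_scissor (pullback.fst c g ≫ c ≫ h) iX jX hrX]
  congr 1
  · exact K0Var.cl_congr _ _ (Iso.refl _) (by simp [iX, pullback.map]; erw [pullback.lift_fst_assoc]; simp)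
  · exact K0Var.cl_congr _ _ (Iso.refl _) (by simp [jX, pullback.map]; erw [pullback.lift_fst_assoc]; simp)

/-- **Stratification.** If every integral subscheme of `H` has a nonempty open on which the classes of
the pulled back families add up to its class, then so do the classes of the families themselves. -/
theorem cl_eq_sum_of_generic {H : Scheme.{u}} (h : H ⟶ Spec (CommRingCat.of k)) [LocallyOfFiniteType h]
    [QuasiCompact h] {α : Type*} (s : Finset α) (W : α → Scheme.{u}) (g : ∀ a, W a ⟶ H)
    [∀ a, LocallyOfFiniteType (g a)] [∀ a, QuasiCompact (g a)]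
    (hgen : ∀ {V : Scheme.{u}} [IsIntegral V] (v : V ⟶ H) [IsImmersion v] [LocallyOfFiniteType v]
      [QuasiCompact v], ∃ (U : V.Opens) (_ : QuasiCompact U.ι), (U : Set V).Nonempty ∧
        K0Var.cl ((U.ι ≫ v) ≫ h) = ∑ a ∈ s, K0Var.cl (pullback.fst (U.ι ≫ v) (g a) ≫ (U.ι ≫ v) ≫ h)) :
    K0Var.cl h = ∑ a ∈ s, K0Var.cl (g a ≫ h) := by
  classical
  haveI : IsLocallyNoetherian H := LocallyOfFiniteType.isLocallyNoetherian h
  haveI : CompactSpace H := QuasiCompact.compactSpace_of_compactSpace h
  haveI : IsNoetherian H := {}
  have key : ∀ C : Closeds H,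
      K0Var.cl ((Scheme.IdealSheafData.vanishingIdeal C).subschemeι ≫ h) =
        ∑ a ∈ s, K0Var.cl (pullback.fst (Scheme.IdealSheafData.vanishingIdeal C).subschemeι (g a) ≫
          (Scheme.IdealSheafData.vanishingIdeal C).subschemeι ≫ h) := by
    intro C
    induction C using WellFoundedLT.induction with
    | _ C ih =>
      let c := (Scheme.IdealSheafData.vanishingIdeal C).subschemeι
      by_cases hC : Nonempty (Scheme.IdealSheafData.vanishingIdeal C).subscheme
      · haveI := isReduced_vanishing C
        haveI : IsLocallyNoetherian (Scheme.IdealSheafData.vanishingIdeal C).subscheme :=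
          LocallyOfFiniteType.isLocallyNoetherian (c ≫ h)
        haveI : CompactSpace (Scheme.IdealSheafData.vanishingIdeal C).subscheme :=
          QuasiCompact.compactSpace_of_compactSpace (c ≫ h)
        haveI : IsNoetherian (Scheme.IdealSheafData.vanishingIdeal C).subscheme := {}
        obtain ⟨V₀, hV₀⟩ := exists_integral_open (Scheme.IdealSheafData.vanishingIdeal C).subscheme
        obtain ⟨U, hUqc, hUne, hU⟩ := hgen (V₀.ι ≫ c)
        let j : U.toScheme ⟶ _ := U.ι ≫ V₀.ι
        have hcl : IsClosed (c '' (Set.range j)ᶜ) :=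
          c.isClosedEmbedding.isClosedMap _ j.isOpenEmbedding.isOpen_range.isClosed_compl
        let D : Closeds H := ⟨_, hcl⟩
        have hDC : D < C := by
          refine lt_of_le_of_ne ?_ ?_
          · rintro _ ⟨x, -, rfl⟩
            exact (range_vanishing C).le ⟨x, rfl⟩
          · intro e
            obtain ⟨x, hx⟩ := hUne
            have hmem : c (j ⟨x, hx⟩) ∈ (D : Set H) := by
              rw [e]; exact (range_vanishing C).le ⟨_, rfl⟩
            obtain ⟨y, hy, hxy⟩ := hmem
            exact hy ⟨⟨x, hx⟩, (c.isClosedEmbedding.injective hxy).symm⟩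
        let d := (Scheme.IdealSheafData.vanishingIdeal D).subschemeι
        haveI := isReduced_vanishing D
        obtain ⟨i, hi⟩ := exists_lift_reduced c d (by
          rw [range_vanishing, range_vanishing]; exact hDC.le)
        haveI : IsClosedImmersion i := by
          haveI : IsClosedImmersion (i ≫ c) := by rw [hi]; infer_instance
          exact IsClosedImmersion.of_comp _ c
        have hr : Set.range i = (Set.range j)ᶜ := by
          refine Set.image_injective.2 c.isClosedEmbedding.injective ?_
          rw [← Set.range_comp, show (c : _ → H) ∘ i = (i ≫ c : _ ⟶ H) from rfl]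
          exact ((congrArg (fun m : (Scheme.IdealSheafData.vanishingIdeal D).subscheme ⟶ H =>
            Set.range m) hi).trans (range_vanishing D))
        haveI : QuasiCompact j := inferInstance
        rw [K0Var.cl_scissor (c ≫ h) i j hr,
          Finset.sum_congr rfl fun a _ => cl_pullback_scissor h c (g a) i j hr, Finset.sum_add_distrib]
        congr 1
        · have e : i ≫ c = d := hi
          have := ih D hDC
          calc K0Var.cl (i ≫ c ≫ h) = K0Var.cl (d ≫ h) :=
                K0Var.cl_congr _ _ (Iso.refl _) (by simp [← e])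
            _ = _ := this
            _ = _ := by
              refine Finset.sum_congr rfl fun a _ => K0Var.cl_congr _ _ (pullback.congrHom e.symm rfl) ?_
              simp only [pullback.congrHom_hom, pullback.map]
              erw [pullback.lift_fst_assoc]
              simp [reassoc_of% hi, d]
      · rw [not_nonempty_iff] at hC
        rw [K0Var.cl_eq_gen_cl, K0Var.Gen.cl_eq_zero_of_isEmpty]
        refine (Finset.sum_eq_zero fun a _ => ?_).symm
        haveI : IsEmpty ↥(pullback c (g a)) := Function.isEmpty (pullback.fst c (g a) : _ → _)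
        rw [K0Var.cl_eq_gen_cl, K0Var.Gen.cl_eq_zero_of_isEmpty]
  let c := (Scheme.IdealSheafData.vanishingIdeal (⊤ : Closeds H)).subschemeι
  haveI : IsOpenImmersion (Scheme.emptyTo H) := inferInstance
  have hr : Set.range c = (Set.range (Scheme.emptyTo H))ᶜ := by
    rw [range_vanishing, Set.range_eq_empty (Scheme.emptyTo H)]; simp
  have h0 : ∀ {Y : Scheme.{u}} [IsEmpty Y] (q : Y ⟶ Spec (CommRingCat.of k)) [LocallyOfFiniteType q]
      [QuasiCompact q], K0Var.cl q = 0 := fun q _ _ => by
    rw [K0Var.cl_eq_gen_cl, K0Var.Gen.cl_eq_zero_of_isEmpty]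
  have e1 : ∀ a, K0Var.cl (g a ≫ h) = K0Var.cl (pullback.fst c (g a) ≫ c ≫ h) := fun a => by
    haveI : IsClosedImmersion (pullback.snd c (g a)) := inferInstance
    have := K0Var.cl_scissor (g a ≫ h) (pullback.snd c (g a)) (Scheme.emptyTo (W a)) (by
      rw [Scheme.Pullback.range_snd, range_vanishing, Set.range_eq_empty (Scheme.emptyTo (W a))]; simp)
    rw [h0 (Scheme.emptyTo (W a) ≫ g a ≫ h), add_zero] at this
    rw [this]
    exact K0Var.cl_congr _ _ (Iso.refl _) (by simp [pullback.condition_assoc])
  rw [K0Var.cl_scissor h c (Scheme.emptyTo H) hr, h0 (Scheme.emptyTo H ≫ h), add_zero, key ⊤]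
  exact (Finset.sum_congr rfl fun a _ => e1 a).symm

end Groth.Agent.HilbZeta12
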