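import Groth.Agent.Grass5.HilbLocus
import Groth.Agent.HilbZeta12.K0Strat
import Groth.Agent.FlatCrit65.UnivInj

/-!
Decompositions of families of finite subschemes by the position of their points in `X`.
-/

set_option autoImplicit false
set_option linter.style.haveILetI false
set_option backward.isDefEq.respectTransparency false
set_option backward.isDefEq.respectTransparency.types false

universe u

open CategoryTheory CategoryTheory.Limits AlgebraicGeometry

namespace Groth.Agent.HilbZeta12

open Groth.Agent.Grass5.Hilb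

theorem exists_point_of_isPullback {P X Y Z : Scheme.{u}} {a : P ⟶ X} {b : P ⟶ Y} {f : X ⟶ Z} {g : Y ⟶ Z}
    (h : IsPullback a b f g) {x : X} {y : Y} (e : f x = g y) : ∃ p : P, a p = x ∧ b p = y := by
  obtain ⟨q, hq, hq'⟩ := Scheme.Pullback.exists_preimage_pullback x y e
  exact ⟨h.isoPullback.inv q, by rw [← Scheme.Hom.comp_apply, h.isoPullback_inv_fst, hq],
    by rw [← Scheme.Hom.comp_apply, h.isoPullback_inv_snd, hq']⟩

/-- rank is additive on disjoint unions -/
theorem finrank_coprodDesc {A B T : Scheme.{u}} (p : A ⟶ T) (q : B ⟶ T) [IsFinite p] [Flat p] [IsFinite q]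
    [Flat q] (hfl : Flat (coprod.desc p q)) (t : T) :
    (coprod.desc p q).finrank t = p.finrank t + q.finrank t := by
  haveI := hfl
  haveI : IsFinite (coprod.desc p q) := inferInstance
  obtain ⟨R, g, _, x, rfl⟩ := T.exists_Spec_apply_eq t
  let P := pullback (coprod.desc p q) g
  let iA : pullback p g ⟶ P := pullback.map p g (coprod.desc p q) g coprod.inl (𝟙 _) (𝟙 _) (by simp) (by simp)
  let iB : pullback q g ⟶ P := pullback.map q g (coprod.desc p q) g coprod.inr (𝟙 _) (𝟙 _) (by simp) (by simp)
  haveI : IsOpenImmersion iA :=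
    MorphismProperty.pullbackMap (P := @IsOpenImmersion) inferInstance inferInstance (by simp) (by simp)
  haveI : IsOpenImmersion iB :=
    MorphismProperty.pullbackMap (P := @IsOpenImmersion) inferInstance inferInstance (by simp) (by simp)
  have hcompl : IsCompl iA.opensRange iB.opensRange := by
    have hA : (iA.opensRange : Set P) =
        pullback.fst (coprod.desc p q) g ⁻¹' Set.range (coprod.inl : A ⟶ A ⨿ B) := by
      show Set.range iA = _
      simp only [iA]
      erw [Scheme.Pullback.range_map]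
      simp
    have hB : (iB.opensRange : Set P) =
        pullback.fst (coprod.desc p q) g ⁻¹' Set.range (coprod.inr : B ⟶ A ⨿ B) := by
      show Set.range iB = _
      simp only [iB]
      erw [Scheme.Pullback.range_map]
      simp
    have h := (isCompl_range_inl_inr A B).map (CompleteLatticeHom.setPreimage (pullback.fst (coprod.desc p q) g))
    rw [isCompl_iff, disjoint_iff, codisjoint_iff, ← TopologicalSpace.Opens.coe_inj,
      ← TopologicalSpace.Opens.coe_inj, TopologicalSpace.Opens.coe_inf, TopologicalSpace.Opens.coe_sup, hA, hB]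
    exact ⟨disjoint_iff.1 h.1, codisjoint_iff.1 h.2⟩
  obtain ⟨hc⟩ := nonempty_isColimit_binaryCofanMk_of_isCompl iA iB hcompl
  let e : pullback p g ⨿ pullback q g ≅ P := (coprodIsCoprod _ _).coconePointUniqueUpToIso hc
  have he : e.hom ≫ pullback.snd (coprod.desc p q) g = coprod.desc (pullback.snd p g) (pullback.snd q g) := by
    apply coprod.hom_ext
    · have h1 : coprod.inl ≫ e.hom = iA :=
        (coprodIsCoprod _ _).comp_coconePointUniqueUpToIso_hom hc ⟨WalkingPair.left⟩
      rw [← Category.assoc, h1]; simp [iA]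
    · have h1 : coprod.inr ≫ e.hom = iB :=
        (coprodIsCoprod _ _).comp_coconePointUniqueUpToIso_hom hc ⟨WalkingPair.right⟩
      rw [← Category.assoc, h1]; simp [iB]
  rw [← Scheme.Hom.finrank_pullback_snd (coprod.desc p q) g, ← Scheme.Hom.finrank_pullback_snd p g,
    ← Scheme.Hom.finrank_pullback_snd q g, ← Scheme.Hom.finrank_comp_left_of_isIso e.hom, he]
  generalize hp' : pullback.snd p g = p'
  generalize hq' : pullback.snd q g = q'
  haveI : IsFinite p' := hp' ▸ inferInstance
  haveI : Flat p' := hp' ▸ inferInstance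
  haveI : IsFinite q' := hq' ▸ inferInstance
  haveI : Flat q' := hq' ▸ inferInstance
  haveI : IsAffine (pullback p g) := isAffine_of_isAffineHom p'
  haveI : IsAffine (pullback q g) := isAffine_of_isAffineHom q'
  clear he e hc hcompl
  obtain ⟨φ, hφ⟩ := Spec.map_surjective ((pullback p g).isoSpec.inv ≫ p')
  obtain ⟨ψ, hψ⟩ := Spec.map_surjective ((pullback q g).isoSpec.inv ≫ q')
  have ep : p' = (pullback p g).isoSpec.hom ≫ Spec.map φ := by rw [hφ, Iso.hom_inv_id_assoc]
  have eq' : q' = (pullback q g).isoSpec.hom ≫ Spec.map ψ := by rw [hψ, Iso.hom_inv_id_assoc]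
  haveI : IsFinite (Spec.map φ) := by rw [hφ]; infer_instance
  haveI : IsFinite (Spec.map ψ) := by rw [hψ]; infer_instance
  haveI : Flat (Spec.map φ) := by rw [hφ]; infer_instance
  haveI : Flat (Spec.map ψ) := by rw [hψ]; infer_instance
  algebraize [φ.hom, ψ.hom]
  have h1 : Module.Finite R Γ(pullback p g, ⊤) := (IsFinite.SpecMap_iff φ).1 ‹_›
  have h2 : Module.Finite R Γ(pullback q g, ⊤) := (IsFinite.SpecMap_iff ψ).1 ‹_›
  have h3 : Module.Flat R Γ(pullback p g, ⊤) := (Flat.SpecMap_iff (f := φ)).1 ‹_›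
  have h4 : Module.Flat R Γ(pullback q g, ⊤) := (Flat.SpecMap_iff (f := ψ)).1 ‹_›
  haveI : Module.Flat R (Γ(pullback p g, ⊤) × Γ(pullback q g, ⊤)) := FlatCrit65.flat_prod _ _
  let m := CommRingCat.ofHom (algebraMap R (Γ(pullback p g, ⊤) × Γ(pullback q g, ⊤)))
  have ed : coprod.desc p' q' =
      ((coprod.mapIso (pullback p g).isoSpec (pullback q g).isoSpec).hom ≫
        coprodSpec Γ(pullback p g, ⊤) Γ(pullback q g, ⊤)) ≫ Spec.map m := by
    apply coprod.hom_ext
    · rw [coprod.inl_desc, ep]
      simp only [coprod.mapIso_hom, ← Category.assoc, coprod.inl_map]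
      rw [Category.assoc _ coprod.inl, coprodSpec_inl, Category.assoc, ← Spec.map_comp]
      rfl
    · rw [coprod.inr_desc, eq']
      simp only [coprod.mapIso_hom, ← Category.assoc, coprod.inr_map]
      rw [Category.assoc _ coprod.inr, coprodSpec_inr, Category.assoc, ← Spec.map_comp]
      rfl
  haveI : IsFinite (Spec.map m) := (IsFinite.SpecMap_iff m).2 (RingHom.finite_algebraMap.2 inferInstance)
  haveI : Flat (Spec.map m) := (Flat.SpecMap_iff (f := m)).2 (RingHom.flat_algebraMap_iff.2 inferInstance)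
  rw [ed, Scheme.Hom.finrank_comp_left_of_isIso, Scheme.Hom.finrank_SpecMap_algebraMap,
    Module.rankAtStalk_prod]
  rw [ep, eq', Scheme.Hom.finrank_comp_left_of_isIso, Scheme.Hom.finrank_comp_left_of_isIso]
  exact congrArg₂ (· + ·) (Scheme.Hom.finrank_SpecMap_algebraMap R Γ(pullback p g, ⊤) x).symm
    (Scheme.Hom.finrank_SpecMap_algebraMap R Γ(pullback q g, ⊤) x).symm

/-- two closed immersions with disjoint images give a closed immersion of the disjoint union -/
theorem isClosedImmersion_coprodDesc {A B W : Scheme.{u}} (i : A ⟶ W) (j : B ⟶ W) [IsClosedImmersion i]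
    [IsClosedImmersion j] (h : Disjoint (Set.range i) (Set.range j)) :
    IsClosedImmersion (coprod.desc i j) := by
  haveI : IsFinite (coprod.desc i j) := inferInstance
  have hl : ∀ a, (coprod.desc i j) ((coprod.inl : A ⟶ A ⨿ B) a) = i a := fun a => by
    rw [← Scheme.Hom.comp_apply, coprod.inl_desc]
  have hr : ∀ b, (coprod.desc i j) ((coprod.inr : B ⟶ A ⨿ B) b) = j b := fun b => by
    rw [← Scheme.Hom.comp_apply, coprod.inr_desc]
  have hinj : Function.Injective (coprod.desc i j) := by
    intro x y hxy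
    obtain ⟨x, rfl⟩ := (coprodMk A B).surjective x
    obtain ⟨y, rfl⟩ := (coprodMk A B).surjective y
    rcases x with x | x <;> rcases y with y | y <;>
      simp only [coprodMk_inl, coprodMk_inr, hl, hr] at hxy ⊢
    · rw [i.isClosedEmbedding.injective hxy]
    · exact absurd hxy (Set.disjoint_iff_forall_ne.1 h ⟨x, rfl⟩ ⟨y, rfl⟩)
    · exact absurd hxy.symm (Set.disjoint_iff_forall_ne.1 h ⟨y, rfl⟩ ⟨x, rfl⟩)
    · rw [j.isClosedEmbedding.injective hxy]
  have key : ∀ {C : Scheme.{u}} (o : C ⟶ A ⨿ B) [IsOpenImmersion o] (c : C) {m : C ⟶ W},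
      (∀ x, Function.Surjective (m.stalkMap x)) → o ≫ coprod.desc i j = m →
      Function.Surjective ((coprod.desc i j).stalkMap (o c)) := by
    intro C o _ c m hm e
    subst e
    have h2 := hm c
    rw [Scheme.Hom.stalkMap_comp] at h2
    intro s
    obtain ⟨r, hr⟩ := h2 ((o.stalkMap c).hom s)
    exact ⟨r, (ConcreteCategory.bijective_of_isIso (o.stalkMap c)).1 hr⟩
  haveI : IsPreimmersion (coprod.desc i j) := by
    haveI : SurjectiveOnStalks (coprod.desc i j) := ⟨fun z => by
      obtain ⟨z, rfl⟩ := (coprodMk A B).surjective z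
      rcases z with z | z
      · rw [coprodMk_inl]
        exact key coprod.inl z i.stalkMap_surjective (coprod.inl_desc i j)
      · rw [coprodMk_inr]
        exact key coprod.inr z j.stalkMap_surjective (coprod.inr_desc i j)⟩
    exact ⟨(Topology.IsClosedEmbedding.of_continuous_injective_isClosedMap (coprod.desc i j).continuous hinj
      (coprod.desc i j).isClosedMap).isEmbedding⟩
  exact IsClosedImmersion.of_isPreimmersion _ (coprod.desc i j).isClosedMap.isClosed_range

variable {X S : Scheme.{u}} (f : X ⟶ S) {T T' : Over S}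

/-- the projection of a family to `X` -/
noncomputable abbrev toX (I : (PicF.XT f T).IdealSheafData) : I.subscheme ⟶ X :=
  I.subschemeι ≫ pullback.fst f T.hom

/-- the projection of a family to the base -/
noncomputable abbrev toT (I : (PicF.XT f T).IdealSheafData) : I.subscheme ⟶ T.left :=
  I.subschemeι ≫ PicF.XTproj f T

/-- all points of the family lie in `P` -/
def Within (P : Set X) (I : (PicF.XT f T).IdealSheafData) : Prop := ∀ z : I.subscheme, toX f I z ∈ P

/-- `J` is the open and closed part of `I` lying over `P` -/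
def IsPiece (P : Set X) (I J : (PicF.XT f T).IdealSheafData) : Prop :=
  ∃ a : J.subscheme ⟶ I.subscheme, IsOpenImmersion a ∧ a ≫ I.subschemeι = J.subschemeι ∧
    Set.range a = toX f I ⁻¹' P

theorem IsPiece.within {P : Set X} {I J : (PicF.XT f T).IdealSheafData} (h : IsPiece f P I J) :
    Within f P J := by
  obtain ⟨a, -, ha, hr⟩ := h
  intro z
  have hz : a z ∈ toX f I ⁻¹' P := hr ▸ Set.mem_range_self z
  have e : toX f J = a ≫ toX f I := by simp [toX, reassoc_of% ha]
  rw [e, Scheme.Hom.comp_apply]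
  exact hz

theorem IsPiece.unique {P : Set X} {I J J' : (PicF.XT f T).IdealSheafData} (h : IsPiece f P I J)
    (h' : IsPiece f P I J') : J = J' := by
  obtain ⟨a, h1, ha, hr⟩ := h
  obtain ⟨a', h1', ha', hr'⟩ := h'
  let e := IsOpenImmersion.isoOfRangeEq a a' (hr.trans hr'.symm)
  have he : e.hom ≫ a' = a := IsOpenImmersion.isoOfRangeEq_hom_fac _ _ _
  calc J = J.subschemeι.ker := (Scheme.IdealSheafData.ker_subschemeι J).symm
    _ = (e.hom ≫ J'.subschemeι).ker := by rw [← ha', ← Category.assoc, he, ha]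
    _ = J'.subschemeι.ker := Scheme.Hom.ker_comp_of_isIso _ _
    _ = J' := Scheme.IdealSheafData.ker_subschemeι J'

/-- the base change of a family, with compatibility with the ambient space -/
theorem exists_isPullback_pull (g : T' ⟶ T) (I : (PicF.XT f T).IdealSheafData) :
    ∃ q : (HilbD.pull f g I).subscheme ⟶ I.subscheme,
      IsPullback q (HilbD.pull f g I).subschemeι I.subschemeι (PicF.XTmap f g) ∧
      IsPullback q (toT f (HilbD.pull f g I)) (toT f I) g.left ∧
      q ≫ toX f I = toX f (HilbD.pull f g I) := by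
  rw [pull_eq_comap]
  let q := (I.comapIso (PicF.XTmap f g)).hom ≫ pullback.snd (PicF.XTmap f g) I.subschemeι
  have h1 : IsPullback q (I.comap (PicF.XTmap f g)).subschemeι I.subschemeι (PicF.XTmap f g) :=
    (IsPullback.of_hasPullback (PicF.XTmap f g) I.subschemeι).flip.of_iso
      (I.comapIso (PicF.XTmap f g)).symm (Iso.refl _) (Iso.refl _) (Iso.refl _)
      (by simp [q, -Scheme.IdealSheafData.comapIso_hom_snd, -Scheme.IdealSheafData.comapIso_hom_snd_assoc])
      (by simp) (by simp) (by simp)
  refine ⟨q, h1, h1.paste_vert (isPullback_XTmap f g), ?_⟩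
  show q ≫ I.subschemeι ≫ pullback.fst f T.hom = _
  rw [reassoc_of% h1.w]
  congr 1
  simp [PicF.XTmap]

theorem IsPiece.pull {P : Set X} {I J : (PicF.XT f T).IdealSheafData} (h : IsPiece f P I J) (g : T' ⟶ T) :
    IsPiece f P (HilbD.pull f g I) (HilbD.pull f g J) := by
  obtain ⟨a, h1, ha, hr⟩ := h
  haveI := h1
  obtain ⟨qI, hI, -, hIX⟩ := exists_isPullback_pull f g I
  obtain ⟨qJ, hJ, -, -⟩ := exists_isPullback_pull f g J
  let a' := hI.lift (qJ ≫ a) (HilbD.pull f g J).subschemeι (by rw [Category.assoc, ha, hJ.w])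
  have ha' : a' ≫ (HilbD.pull f g I).subschemeι = (HilbD.pull f g J).subschemeι := hI.lift_snd _ _ _
  have hq : a' ≫ qI = qJ ≫ a := hI.lift_fst _ _ _
  have sq : IsPullback qJ a' a qI :=
    IsPullback.of_bot (by rw [ha', ha]; exact hJ) hq.symm hI
  refine ⟨a', MorphismProperty.of_isPullback (P := @IsOpenImmersion) sq h1, ha', Set.ext fun z => ?_⟩
  rw [Set.mem_preimage, ← hIX, Scheme.Hom.comp_apply, ← Set.mem_preimage, ← hr]
  constructor
  · rintro ⟨w, rfl⟩
    exact ⟨qJ w, by rw [← Scheme.Hom.comp_apply, ← hq, Scheme.Hom.comp_apply]⟩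
  · rintro ⟨w, hw⟩
    obtain ⟨p, -, hp⟩ := exists_point_of_isPullback sq hw
    exact ⟨p, hp⟩

theorem within_pull {P : Set X} {I : (PicF.XT f T).IdealSheafData} (h : Within f P I) (g : T' ⟶ T) :
    Within f P (HilbD.pull f g I) := by
  obtain ⟨q, -, -, hX⟩ := exists_isPullback_pull f g I
  intro z
  rw [← hX, Scheme.Hom.comp_apply]
  exact h (q z)

/-- all points over `t` lie in `P` -/
def InFibre (P : Set X) (I : (PicF.XT f T).IdealSheafData) (t : T.left) : Prop :=
  ∀ z : I.subscheme, toT f I z = t → toX f I z ∈ P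

theorem inFibre_pull {P : Set X} (I : (PicF.XT f T).IdealSheafData) (g : T' ⟶ T) (t : T'.left) :
    InFibre f P (HilbD.pull f g I) t ↔ InFibre f P I (g.left t) := by
  obtain ⟨q, -, hq, hX⟩ := exists_isPullback_pull f g I
  constructor
  · intro h z hz
    obtain ⟨p, rfl, hp⟩ := exists_point_of_isPullback hq hz
    rw [← Scheme.Hom.comp_apply, hX]
    exact h p hp
  · intro h z hz
    rw [← hX, Scheme.Hom.comp_apply]
    refine h (q z) ?_
    rw [← Scheme.Hom.comp_apply, hq.w, Scheme.Hom.comp_apply, hz]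

theorem within_pull_iff {P : Set X} (I : (PicF.XT f T).IdealSheafData) (g : T' ⟶ T) :
    Within f P (HilbD.pull f g I) ↔ ∀ t : T'.left, InFibre f P I (g.left t) := by
  refine ⟨fun h t => (inFibre_pull f I g t).1 fun z _ => h z, fun h z => ?_⟩
  exact (inFibre_pull f I g _).2 (h _) z rfl

/-- the union of two families in disjoint parts of `X` -/
noncomputable def union (I J : (PicF.XT f T).IdealSheafData) : (PicF.XT f T).IdealSheafData :=
  (coprod.desc I.subschemeι J.subschemeι).ker

theorem isClosedImmersion_union {P : Set X} {I J : (PicF.XT f T).IdealSheafData} (hI : Within f P I)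
    (hJ : Within f Pᶜ J) : IsClosedImmersion (coprod.desc I.subschemeι J.subschemeι) := by
  refine isClosedImmersion_coprodDesc _ _ (Set.disjoint_iff_forall_ne.2 ?_)
  rintro _ ⟨a, rfl⟩ _ ⟨b, rfl⟩ e
  refine hJ b ?_
  have := hI a
  simp only [toX, Scheme.Hom.comp_apply] at this ⊢
  rwa [e] at this

theorem isPiece_union {P : Set X} {I J : (PicF.XT f T).IdealSheafData} (hI : Within f P I)
    (hJ : Within f Pᶜ J) : IsPiece f P (union f I J) I ∧ IsPiece f Pᶜ (union f I J) J := by
  haveI := isClosedImmersion_union f hI hJ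
  let u := coprod.desc I.subschemeι J.subschemeι
  let u' : I.subscheme ⨿ J.subscheme ⟶ (union f I J).subscheme := u.toImage
  haveI : IsIso u' := inferInstanceAs (IsIso u.toImage)
  have hu : u' ≫ (union f I J).subschemeι = u := u.toImage_imageι
  have hl : (coprod.inl ≫ u') ≫ (union f I J).subschemeι = I.subschemeι := by
    rw [Category.assoc, hu]; exact coprod.inl_desc _ _
  have hr : (coprod.inr ≫ u') ≫ (union f I J).subschemeι = J.subschemeι := by
    rw [Category.assoc, hu]; exact coprod.inr_desc _ _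
  have hcases : ∀ z : (union f I J).subscheme, (∃ w, (coprod.inl ≫ u' : I.subscheme ⟶ _) w = z) ∨
      ∃ w, (coprod.inr ≫ u' : J.subscheme ⟶ _) w = z := by
    intro z
    obtain ⟨y, rfl⟩ := u'.surjective z
    obtain ⟨y, rfl⟩ := (coprodMk _ _).surjective y
    rcases y with y | y
    · exact .inl ⟨y, by rw [coprodMk_inl, Scheme.Hom.comp_apply]⟩
    · exact .inr ⟨y, by rw [coprodMk_inr, Scheme.Hom.comp_apply]⟩
  have hxl : ∀ w, toX f (union f I J) ((coprod.inl ≫ u' : I.subscheme ⟶ _) w) = toX f I w := fun w => by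
    rw [← Scheme.Hom.comp_apply]; simp [toX, ← reassoc_of% hl]
  have hxr : ∀ w, toX f (union f I J) ((coprod.inr ≫ u' : J.subscheme ⟶ _) w) = toX f J w := fun w => by
    rw [← Scheme.Hom.comp_apply]; simp [toX, ← reassoc_of% hr]
  refine ⟨⟨coprod.inl ≫ u', inferInstance, hl, Set.ext fun z => ⟨?_, fun hz => ?_⟩⟩,
    ⟨coprod.inr ≫ u', inferInstance, hr, Set.ext fun z => ⟨?_, fun hz => ?_⟩⟩⟩
  · rintro ⟨w, rfl⟩; rw [Set.mem_preimage, hxl]; exact hI w
  · rcases hcases z with h | ⟨w, rfl⟩
    · exact h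
    · rw [Set.mem_preimage, hxr] at hz; exact absurd hz (hJ w)
  · rintro ⟨w, rfl⟩; rw [Set.mem_preimage, hxr]; exact hJ w
  · rcases hcases z with ⟨w, rfl⟩ | h
    · rw [Set.mem_preimage, hxl] at hz; exact absurd (hI w) hz
    · exact h

theorem eq_union_of_isPiece {P : Set X} {I A B : (PicF.XT f T).IdealSheafData} (hA : IsPiece f P I A)
    (hB : IsPiece f Pᶜ I B) : I = union f A B := by
  obtain ⟨a, h1, ha, hra⟩ := hA
  obtain ⟨b, h2, hb, hrb⟩ := hB
  have hc : IsCompl a.opensRange b.opensRange := by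
    rw [isCompl_iff, disjoint_iff, codisjoint_iff, ← TopologicalSpace.Opens.coe_inj,
      ← TopologicalSpace.Opens.coe_inj, TopologicalSpace.Opens.coe_inf, TopologicalSpace.Opens.coe_sup,
      Scheme.Hom.coe_opensRange, Scheme.Hom.coe_opensRange, hra, hrb, Set.preimage_compl]
    simp
  obtain ⟨hcol⟩ := nonempty_isColimit_binaryCofanMk_of_isCompl a b hc
  let e := (coprodIsCoprod A.subscheme B.subscheme).coconePointUniqueUpToIso hcol
  have h1' : coprod.inl ≫ e.hom = a :=
    (coprodIsCoprod _ _).comp_coconePointUniqueUpToIso_hom hcol ⟨WalkingPair.left⟩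
  have h2' : coprod.inr ≫ e.hom = b :=
    (coprodIsCoprod _ _).comp_coconePointUniqueUpToIso_hom hcol ⟨WalkingPair.right⟩
  have he : coprod.desc A.subschemeι B.subschemeι = e.hom ≫ I.subschemeι := by
    apply coprod.hom_ext
    · rw [coprod.inl_desc, reassoc_of% h1', ha]
    · rw [coprod.inr_desc, reassoc_of% h2', hb]
  show I = (coprod.desc A.subschemeι B.subschemeι).ker
  rw [he, Scheme.Hom.ker_comp_of_isIso, Scheme.IdealSheafData.ker_subschemeι]

theorem finLocFreeOfDeg_union {P : Set X} {I J : (PicF.XT f T).IdealSheafData} (hI : Within f P I)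
    (hJ : Within f Pᶜ J) {a b : ℕ} (ha : Mor2.IsFinLocFreeOfDeg a (toT f I))
    (hb : Mor2.IsFinLocFreeOfDeg b (toT f J)) :
    Mor2.IsFinLocFreeOfDeg (a + b) (toT f (union f I J)) := by
  haveI := isClosedImmersion_union f hI hJ
  obtain ⟨⟨a1, a2, a3⟩, had⟩ := ha
  obtain ⟨⟨b1, b2, b3⟩, hbd⟩ := hb
  haveI := a1; haveI := a2; haveI := a3; haveI := b1; haveI := b2; haveI := b3
  let u := coprod.desc I.subschemeι J.subschemeι
  have hu : u.toImage ≫ (union f I J).subschemeι = u := u.toImage_imageι
  have e : coprod.desc (toT f I) (toT f J) = u.toImage ≫ toT f (union f I J) := by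
    rw [← Category.assoc, hu]
    apply coprod.hom_ext <;> simp [u]
  have hfl : Flat (coprod.desc (toT f I) (toT f J)) :=
    IsZariskiLocalAtSource.of_openCover (coprodOpenCover.{u, u} _ _) (by
      rintro (x | x)
      · show Flat (coprod.inl ≫ _); rw [coprod.inl_desc]; infer_instance
      · show Flat (coprod.inr ≫ _); rw [coprod.inr_desc]; infer_instance)
  have hlfp : LocallyOfFinitePresentation (coprod.desc (toT f I) (toT f J)) :=
    IsZariskiLocalAtSource.of_openCover (coprodOpenCover.{u, u} _ _) (by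
      rintro (x | x)
      · show LocallyOfFinitePresentation (coprod.inl ≫ _); rw [coprod.inl_desc]; infer_instance
      · show LocallyOfFinitePresentation (coprod.inr ≫ _); rw [coprod.inr_desc]; infer_instance)
  haveI hfin : IsFinite (coprod.desc (toT f I) (toT f J)) := inferInstance
  refine finLocFreeOfDeg_isPullback (fst := inv u.toImage) (g := 𝟙 T.left)
    (IsPullback.of_horiz_isIso ⟨by rw [Category.comp_id, e]; simp⟩)
    ⟨⟨hfin, hfl, hlfp⟩, fun y => ?_⟩
  rw [finrank_coprodDesc _ _ hfl, had, hbd]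

/-- an open and closed part of constant rank over a connected base -/
theorem exists_piece {P : Set X} {d : ℕ} (I : (PicF.XT f T).IdealSheafData)
    (hI : Mor2.IsFinLocFreeOfDeg d (toT f I)) (hP : IsClopen (toX f I ⁻¹' P))
    [PreconnectedSpace T.left] [Nonempty T.left] :
    ∃ (a : ℕ) (J : (PicF.XT f T).IdealSheafData), IsPiece f P I J ∧
      Mor2.IsFinLocFreeOfDeg a (toT f J) := by
  obtain ⟨⟨i1, i2, i3⟩, -⟩ := hI
  haveI := i1; haveI := i2; haveI := i3
  let U : I.subscheme.Opens := ⟨_, hP.isOpen⟩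
  haveI : IsClosedImmersion U.ι :=
    IsClosedImmersion.of_isPreimmersion _ (by rw [Scheme.Opens.range_ι]; exact hP.isClosed)
  let m := U.ι ≫ I.subschemeι
  have hm : m.toImage ≫ m.ker.subschemeι = m := m.toImage_imageι
  let a := inv m.toImage ≫ U.ι
  have ha : a ≫ I.subschemeι = m.ker.subschemeι := by
    rw [Category.assoc, IsIso.inv_comp_eq]; exact hm.symm
  have hr : Set.range a = toX f I ⁻¹' P := by
    refine Eq.trans (Set.ext fun z => ?_) (Scheme.Opens.range_ι U)
    constructor
    · rintro ⟨w, rfl⟩; exact ⟨(inv m.toImage) w, (Scheme.Hom.comp_apply _ _ _).symm⟩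
    · rintro ⟨w, rfl⟩
      obtain ⟨v, rfl⟩ := (inv m.toImage).surjective w
      exact ⟨v, Scheme.Hom.comp_apply _ _ _⟩
  haveI : IsClosedImmersion a := inferInstance
  haveI : IsOpenImmersion a := inferInstance
  have e : a ≫ toT f I = toT f m.ker := by simp [toT, reassoc_of% ha]
  haveI : IsFinite (toT f m.ker) := e ▸ inferInstance
  haveI : Flat (toT f m.ker) := e ▸ inferInstance
  haveI : LocallyOfFinitePresentation (toT f m.ker) := e ▸ inferInstance
  obtain ⟨t₀⟩ := ‹Nonempty T.left›
  exact ⟨(toT f m.ker).finrank t₀, m.ker, ⟨a, inferInstance, ha, hr⟩,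
    ⟨inferInstance, inferInstance, inferInstance⟩, fun y =>
      (toT f m.ker).isLocallyConstant_finrank.apply_eq_of_preconnectedSpace y t₀⟩

end Groth.Agent.HilbZeta12
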