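import Groth.Agent.HilbZeta12.PointStrat
import Groth.Agent.HilbZeta12.Union
import Groth.Agent.Grass5.PunctPt

/-!
The class of a punctual Hilbert scheme of an affine scheme from a decomposition of its ideals into cells.
-/

set_option autoImplicit false
set_option linter.style.haveILetI false
set_option maxHeartbeats 1600000
set_option backward.isDefEq.respectTransparency false
set_option backward.isDefEq.respectTransparency.types false

universe u

open CategoryTheory CategoryTheory.Limits AlgebraicGeometry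
open scoped TensorProduct

noncomputable section

namespace Groth.Agent.HilbZeta12

open Groth.Agent.Grass5.Hilb Groth.Agent.Grass5.Punct

variable {k : Type u} [Field k] {R : Type u} [CommRing R] [Algebra k R]

theorem le_of_sh_le {B : Type u} [CommRing B] [Algebra k B] {J J' : Ideal (B ⊗[k] R)} (h : sh J ≤ sh J') :
    J ≤ J' := by
  let l := IsClosedImmersion.lift (inclJ J) (inclJ J') h
  have hl : l ≫ inclJ J = inclJ J' := IsClosedImmersion.lift_fac _ _ _
  have h2 : l ≫ Spec.map (CommRingCat.ofHom (Ideal.Quotient.mk J)) =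
      Spec.map (CommRingCat.ofHom (Ideal.Quotient.mk J')) := by
    rw [← cancel_mono (eXT k R B).inv, Category.assoc]; exact hl
  rw [← Spec.map_preimage l, ← Spec.map_comp] at h2
  have h3 := Spec.map_injective h2
  intro x hx
  have := congr($h3 x)
  rw [ConcreteCategory.comp_apply] at this
  rw [← Ideal.Quotient.eq_zero_iff_mem]
  refine this.symm.trans ?_
  show (Spec.preimage l).hom (Ideal.Quotient.mk J x) = 0
  rw [Ideal.Quotient.eq_zero_iff_mem.2 hx, map_zero]

theorem sh_injective {B : Type u} [CommRing B] [Algebra k B] {J J' : Ideal (B ⊗[k] R)} (h : sh J = sh J') :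
    J = J' :=
  le_antisymm (le_of_sh_le h.le) (le_of_sh_le h.ge)

/-- An ideal of the base change supported at the point cut out by `G`. -/
def SuppAt (G : Set R) {B : Type u} [CommRing B] [Algebra k B] (J : Ideal (B ⊗[k] R)) : Prop :=
  ∀ g ∈ G, ((1 : B) ⊗ₜ[k] g) ∈ J.radical

theorem within_sh_iff (x₀ : Spec (CommRingCat.of R)) (G : Set R) (hG : x₀.asIdeal = Ideal.span G)
    (hmax : x₀.asIdeal.IsMaximal) {B : Type u} [CommRing B] [Algebra k B] (J : Ideal (B ⊗[k] R)) :
    Within (str k R) ({x₀} : Set ↥(Spec (CommRingCat.of R))) (sh J) ↔ SuppAt G J := by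
  let tI : Spec (CommRingCat.of ((B ⊗[k] R) ⧸ J)) ⟶ (sh J).subscheme := (inclJ J).toImage
  haveI : IsIso tI := inferInstanceAs (IsIso (inclJ J).toImage)
  have he : tI ≫ toX (str k R) (sh J) =
      Spec.map (CommRingCat.ofHom ((Ideal.Quotient.mk J).comp
        (Algebra.TensorProduct.includeRight : R →ₐ[k] B ⊗[k] R).toRingHom)) := by
    show tI ≫ (sh J).subschemeι ≫ _ = _
    rw [← Category.assoc, show tI ≫ (sh J).subschemeι = inclJ J from (inclJ J).toImage_imageι,
      inclJ, Category.assoc, eXT_inv_fst, ← Spec.map_comp]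
    rfl
  let i := (Algebra.TensorProduct.includeRight : R →ₐ[k] B ⊗[k] R).toRingHom
  constructor
  · intro h g hg
    rw [Ideal.radical_eq_sInf, Ideal.mem_sInf]
    rintro P ⟨hJP, hP⟩
    haveI : (P.map (Ideal.Quotient.mk J)).IsPrime :=
      Ideal.map_isPrime_of_surjective Ideal.Quotient.mk_surjective (by rwa [Ideal.mk_ker])
    let q : Spec (CommRingCat.of ((B ⊗[k] R) ⧸ J)) := ⟨P.map (Ideal.Quotient.mk J), inferInstance⟩
    have h1 : toX (str k R) (sh J) (tI q) = x₀ := h (tI q)
    rw [← Scheme.Hom.comp_apply, he] at h1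
    have h2 : g ∈ (Spec.map (CommRingCat.ofHom ((Ideal.Quotient.mk J).comp i)) q).asIdeal := by
      rw [h1, hG]; exact Ideal.subset_span hg
    have h3 : Ideal.Quotient.mk J (i g) ∈ P.map (Ideal.Quotient.mk J) := h2
    rw [Ideal.mem_quotient_iff_mem hJP] at h3
    exact h3
  · intro h z
    obtain ⟨q, rfl⟩ := tI.surjective z
    show toX (str k R) (sh J) _ = x₀
    rw [← Scheme.Hom.comp_apply, he]
    refine PrimeSpectrum.ext (hmax.eq_of_le (Ideal.IsPrime.ne_top inferInstance) ?_).symm
    rw [hG, Ideal.span_le]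
    intro g hg
    obtain ⟨n, hn⟩ := h g hg
    refine q.2.mem_of_pow_mem n ?_
    show (Ideal.Quotient.mk J (i g)) ^ n ∈ q.asIdeal
    have hn' : i g ^ n ∈ J := hn
    rw [← map_pow, Ideal.Quotient.eq_zero_iff_mem.2 hn']
    exact zero_mem _

instance locallyOfFiniteType_specMap (B : Type u) [CommRing B] [Algebra k B] [Algebra.FiniteType k B] :
    LocallyOfFiniteType (Spec.map (CommRingCat.ofHom (algebraMap k B))) :=
  (HasRingHomProperty.Spec_iff (P := @LocallyOfFiniteType)).2 (RingHom.finiteType_algebraMap.2 inferInstance)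

/-- **Cells compute the punctual class.** -/
theorem cl_punctual_eq_sum_cells [Algebra.FiniteType k R] (d : ℕ)
    (H : Over (Spec (CommRingCat.of k))) (Z : HilbD.Obj (str k R) d H)
    (hZ : HilbD.IsUniversal (str k R) d H Z) [LocallyOfFiniteType H.hom] [QuasiCompact H.hom]
    (x₀ : Spec (CommRingCat.of R)) (G : Set R) (hG : x₀.asIdeal = Ideal.span G) (hmax : x₀.asIdeal.IsMaximal)
    {HP : Scheme.{u}} (ι : HP ⟶ H.left) [IsClosedImmersion ι]
    (hι : Set.range ι = {h | InFibre (str k R) ({x₀} : Set ↥(Spec (CommRingCat.of R))) Z.1 h})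
    {α : Type*} [Fintype α] (B : α → Type u) [∀ a, CommRing (B a)] [∀ a, Algebra k (B a)]
    [∀ a, Algebra.FiniteType k (B a)] [∀ a, IsReduced (B a)] [∀ a, Nontrivial (B a)]
    (J : ∀ a, Ideal (B a ⊗[k] R))
    (hfree : ∀ a, Nonempty (Module.Basis (Fin d) (B a) ((B a ⊗[k] R) ⧸ J a)))
    (hsupp : ∀ a, SuppAt G (J a))
    (hpts : ∀ (K : Type u) [Field K] [Algebra k K] (J' : Ideal (K ⊗[k] R)),
      Module.Finite K ((K ⊗[k] R) ⧸ J') → Module.finrank K ((K ⊗[k] R) ⧸ J') = d → SuppAt G J' →
      ∃! q : Σ a, B a →ₐ[k] K, (J q.1).map (bcA R q.2).toRingHom = J') :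
    K0Var.cl (ι ≫ H.hom) = ∑ a, K0Var.cl (Spec.map (CommRingCat.ofHom (algebraMap k (B a)))) := by
  have hobj : ∀ a, Mor2.IsFinLocFreeOfDeg d ((sh (J a)).subschemeι ≫ PicF.XTproj (str k R) (TB k (B a))) := by
    intro a
    obtain ⟨b⟩ := hfree a
    haveI := Module.Free.of_basis b
    haveI := Module.Finite.of_basis b
    exact finLocFreeOfDeg_sh_of_free d (J a) ((Module.finrank_eq_card_basis b).trans (Fintype.card_fin d))
  have hμe : ∀ a, ∃ g : TB k (B a) ⟶ H, HilbD.pull (str k R) g Z.1 = sh (J a) :=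
    fun a => (hZ _ ⟨sh (J a), hobj a⟩).exists
  choose μ hμ using hμe
  have hred : ∀ a, AlgebraicGeometry.IsReduced (Spec (CommRingCat.of (B a))) := fun a => inferInstance
  have hl : ∀ a, ∃ l : Spec (CommRingCat.of (B a)) ⟶ HP, l ≫ ι = (μ a).left := fun a => by
    haveI : AlgebraicGeometry.IsReduced (TB k (B a)).left := hred a
    refine exists_lift_reduced ι (μ a).left ?_
    rintro _ ⟨t, rfl⟩
    rw [hι]
    refine (within_pull_iff (str k R) Z.1 (μ a)).1 ?_ t
    rw [hμ a]
    exact (within_sh_iff x₀ G hG hmax (J a)).2 (hsupp a)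
  choose l hlι using hl
  have hcomp : ∀ a, l a ≫ ι ≫ H.hom = Spec.map (CommRingCat.ofHom (algebraMap k (B a))) := fun a => by
    rw [← Category.assoc, hlι]; exact Over.w (μ a)
  haveI hft : ∀ a, LocallyOfFiniteType (Spec.map (CommRingCat.ofHom (algebraMap k (B a)))) := fun a =>
    (HasRingHomProperty.Spec_iff (P := @LocallyOfFiniteType)).2 (RingHom.finiteType_algebraMap.2 inferInstance)
  haveI : ∀ a, LocallyOfFiniteType (l a) := fun a => by
    haveI : LocallyOfFiniteType (l a ≫ ι ≫ H.hom) := by rw [hcomp]; infer_instance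
    exact locallyOfFiniteType_of_comp (l a) (ι ≫ H.hom)
  haveI : ∀ a, IsSeparated (l a) := fun a => by
    haveI : IsSeparated (l a ≫ ι ≫ H.hom) := by rw [hcomp]; infer_instance
    exact IsSeparated.of_comp (l a) (ι ≫ H.hom)
  haveI : IsLocallyNoetherian HP := LocallyOfFiniteType.isLocallyNoetherian (ι ≫ H.hom)
  haveI : ∀ a, QuasiCompact (l a) := fun a => inferInstance
  rw [cl_eq_sum_of_points (ι ≫ H.hom) (fun a => Spec (CommRingCat.of (B a))) l ?_]
  · exact Finset.sum_congr rfl fun a _ => K0Var.cl_congr (l a ≫ ι ≫ H.hom)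
      (Spec.map (CommRingCat.ofHom (algebraMap k (B a)))) (Iso.refl _) (by simp [hcomp])
  · intro K _ x
    let χ : CommRingCat.of k ⟶ CommRingCat.of K := Spec.preimage (x ≫ ι ≫ H.hom)
    letI : Algebra k K := χ.hom.toAlgebra
    have hχ : Spec.map (CommRingCat.ofHom (algebraMap k K)) = x ≫ ι ≫ H.hom := Spec.map_preimage _
    let gx : TB k K ⟶ H := Over.homMk (x ≫ ι) (by rw [Category.assoc]; exact hχ.symm)
    obtain ⟨J', hJ'⟩ := exists_sh (HilbD.pull (str k R) gx Z.1)
    have hdeg : Mor2.IsFinLocFreeOfDeg d ((sh J').subschemeι ≫ PicF.XTproj (str k R) (TB k K)) :=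
      hJ' ▸ (objPull gx Z).2
    haveI hfin : Module.Finite K ((K ⊗[k] R) ⧸ J') := by
      have h1 := ((finLocFreeOfDeg_sh_iff d J').1 hdeg).1.1
      exact RingHom.finite_algebraMap.1 ((IsFinite.SpecMap_iff _).1 h1)
    have hrk := finrank_of_finLocFreeOfDeg_sh d J' hdeg
    have hsupp' : SuppAt G J' := by
      refine (within_sh_iff x₀ G hG hmax J').1 ?_
      rw [← hJ', within_pull_iff]
      intro t
      exact hι.le ⟨x t, by simp [gx]⟩
    obtain ⟨⟨a, φ⟩, hφ, huniq⟩ := hpts K J' hfin hrk hsupp'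
    have hgT : gT φ ≫ μ a = gx := by
      refine (hZ _ (objPull gx Z)).unique ?_ rfl
      rw [← pull_comp, hμ, pull_sh]
      show sh _ = HilbD.pull (str k R) gx Z.1
      rw [hJ', hφ]
    refine ⟨⟨a, Spec.map (CommRingCat.ofHom φ.toRingHom)⟩, ?_, ?_⟩
    · show Spec.map _ ≫ l a = x
      rw [← cancel_mono ι, Category.assoc, hlι]
      exact congrArg CommaMorphism.left hgT
    · rintro ⟨a', w⟩ (hw : w ≫ l a' = x)
      obtain ⟨ψ, rfl⟩ := Spec.map_surjective w
      have hψk : CommRingCat.ofHom (algebraMap k (B a')) ≫ ψ = CommRingCat.ofHom (algebraMap k K) := by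
        apply Spec.map_injective
        rw [Spec.map_comp, ← hcomp, reassoc_of% hw, hχ]
      let ψ' : B a' →ₐ[k] K := { ψ.hom with commutes' := fun c => congr($hψk c) }
      have h' : gT ψ' ≫ μ a' = gx := Over.OverMorphism.ext (by
        show Spec.map ψ ≫ (μ a').left = x ≫ ι
        rw [← hlι a', reassoc_of% hw])
      have e : (J a').map (bcA R ψ').toRingHom = J' := by
        refine sh_injective (k := k) ?_
        rw [← pull_sh, ← hμ a', pull_comp, h', hJ']
      have := huniq ⟨a', ψ'⟩ e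
      obtain ⟨rfl, h2⟩ := Sigma.mk.inj_iff.1 this
      rw [← eq_of_heq h2]
      rfl

end Groth.Agent.HilbZeta12
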