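import Groth.Agent.HilbZeta12.PlanarAtlas
import Mathlib.RingTheory.PowerSeries.Basic

/-!
The generating series of the weighted counts of cells.
-/

set_option autoImplicit false

universe v

open PowerSeries

namespace Groth.Agent.HilbZeta12.Planar

variable {S : Type v} [CommRing S] (q : S)

theorem cellCount_eq_zero {n d μ : ℕ} (h : d < μ) : cellCount q n d μ = 0 := by
  cases n with
  | zero => rw [cellCount, if_neg (by omega)]
  | succ n => rw [cellCount, if_neg (by omega)]

/-- the counts summed along `μ`, weighted by `(q t) ^ (i μ)` -/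
noncomputable def zser (n i : ℕ) : PowerSeries S :=
  mk fun D => ∑ μ ∈ Finset.range (D + 1), if i * μ ≤ D then q ^ (i * μ) * cellCount q n (D - i * μ) μ else 0

theorem zser_zero (i : ℕ) : zser q 0 i = 1 := by
  ext D
  rw [zser, coeff_mk, Finset.sum_range_succ', coeff_one]
  rw [Finset.sum_eq_zero fun μ _ => by simp [cellCount]]
  simp [cellCount]

theorem zser_coeff_zero (n D : ℕ) :
    coeff D (zser q n 0) = ∑ μ ∈ Finset.range (D + 1), cellCount q n D μ := by
  simp [zser]

theorem zser_succ (n i : ℕ) :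
    zser q (n + 1) i * (1 - C (q ^ i) * X ^ (i + 1)) = zser q n (i + 1) := by
  have hrec : ∀ μ D, (if i * μ ≤ D then q ^ (i * μ) * cellCount q (n + 1) (D - i * μ) μ else 0) =
      if (i + 1) * μ ≤ D then
        q ^ (i * μ) * ∑ ν ∈ Finset.range (μ + 1), q ^ ν * cellCount q n (D - (i + 1) * μ) ν else 0 := by
    intro μ D
    by_cases h : (i + 1) * μ ≤ D
    · have h1 : i * μ ≤ D := le_trans (Nat.mul_le_mul_right μ (Nat.le_succ i)) h
      rw [if_pos h, if_pos h1, cellCount, if_pos (by rw [Nat.succ_mul] at h; omega),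
        show D - i * μ - μ = D - (i + 1) * μ by rw [Nat.succ_mul]; omega]
    · rw [if_neg h]
      split_ifs with h1
      · rw [cellCount, if_neg (by rw [Nat.succ_mul] at h; omega), mul_zero]
      · rfl
  set G : ℕ → ℕ → S := fun μ D => if (i + 1) * μ ≤ D then
      q ^ (i * μ) * ∑ ν ∈ Finset.range (μ + 1), q ^ ν * cellCount q n (D - (i + 1) * μ) ν else 0 with hG
  set Hh : ℕ → ℕ → S := fun μ D => if (i + 1) * μ ≤ D then
      q ^ ((i + 1) * μ) * cellCount q n (D - (i + 1) * μ) μ else 0 with hH
  have hstep : ∀ μ D, G (μ + 1) D = (if i + 1 ≤ D then q ^ i * G μ (D - (i + 1)) else 0) + Hh (μ + 1) D := by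
    intro μ D
    simp only [hG, hH, Nat.mul_succ (i + 1) μ]
    by_cases h : (i + 1) * μ + (i + 1) ≤ D
    · rw [if_pos h, if_pos h, if_pos (by omega : i + 1 ≤ D), if_pos (by omega : (i + 1) * μ ≤ D - (i + 1)),
        Finset.sum_range_succ _ (μ + 1), show D - (i + 1) - (i + 1) * μ = D - ((i + 1) * μ + (i + 1)) by omega]
      rw [show i * (μ + 1) = i * μ + i by ring, show (i + 1) * μ + (i + 1) = i * μ + i + (μ + 1) by ring]
      simp only [pow_add]
      ring
    · rw [if_neg h, if_neg h]
      split_ifs with h1 h2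
      · omega
      · simp
      · simp
  ext D
  have hZ : ∀ D, coeff D (zser q (n + 1) i) = ∑ μ ∈ Finset.range (D + 1), G μ D := fun D => by
    rw [zser, coeff_mk]; exact Finset.sum_congr rfl fun μ _ => hrec μ D
  have hZ' : coeff D (zser q n (i + 1)) = ∑ μ ∈ Finset.range (D + 1), Hh μ D := by
    rw [zser, coeff_mk]
  rw [mul_sub, mul_one, map_sub, mul_left_comm, coeff_C_mul, coeff_mul_X_pow', hZ, hZ',
    Finset.sum_range_succ', Finset.sum_range_succ' (fun μ => Hh μ D)]
  simp only [hstep]
  rw [Finset.sum_add_distrib, show G 0 D = Hh 0 D by simp [hG, hH]]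
  have key : ∑ μ ∈ Finset.range D, (if i + 1 ≤ D then q ^ i * G μ (D - (i + 1)) else 0) =
      q ^ i * if i + 1 ≤ D then coeff (D - (i + 1)) (zser q (n + 1) i) else 0 := by
    split_ifs with h
    · rw [hZ, ← Finset.mul_sum]
      congr 1
      refine (Finset.sum_subset (Finset.range_subset_range.2 (by omega)) fun μ hμ hμ' => ?_).symm
      simp only [Finset.mem_range] at hμ hμ'
      simp only [hG]
      rw [if_neg]
      intro h'
      have : μ ≤ (i + 1) * μ := Nat.le_mul_of_pos_left μ (Nat.succ_pos i)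
      omega
    · simp
  rw [key]
  ring

theorem zser_prod (n i : ℕ) :
    zser q n i * ∏ m ∈ Finset.range n, (1 - C (q ^ (i + m)) * X ^ (i + m + 1)) = 1 := by
  induction n generalizing i with
  | zero => rw [Finset.prod_range_zero, mul_one, zser_zero]
  | succ n ih =>
    rw [Finset.prod_range_succ', mul_comm (∏ _k ∈ Finset.range n, _), ← mul_assoc, add_zero, zser_succ]
    have h : ∀ m, i + (m + 1) = i + 1 + m := fun m => by omega
    exact (congrArg (zser q n (i + 1) * ·) (Finset.prod_congr rfl fun m _ => by rw [h m])).trans (ih (i + 1))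

theorem series_prod (n : ℕ) :
    (mk fun D => ∑ μ ∈ Finset.range (D + 1), cellCount q n D μ) *
      ∏ m ∈ Finset.range n, (1 - C (q ^ m) * X ^ (m + 1)) = 1 := by
  have h := zser_prod q n 0
  simp only [Nat.zero_add] at h
  rwa [show zser q n 0 = mk fun D => ∑ μ ∈ Finset.range (D + 1), cellCount q n D μ from
    PowerSeries.ext fun D => by rw [zser_coeff_zero, coeff_mk]] at h

end Groth.Agent.HilbZeta12.Planar
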