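import Groth.Agent.HilbZeta12.PlanarStep
import Mathlib.Algebra.MvPolynomial.Rename
import Mathlib.Algebra.MvPolynomial.CommRing
import Mathlib.RingTheory.Polynomial.Basic
import Mathlib.RingTheory.PrincipalIdealDomain
import Mathlib.Algebra.Polynomial.FieldDivision
import Mathlib.RingTheory.FiniteType
import Mathlib.Algebra.GCDMonoid.Basic
import Mathlib.Algebra.BigOperators.Fin
import Mathlib.LinearAlgebra.Dimension.StrongRankCondition

/-!
The atlas of cells for ideals of finite colength in two variables.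
-/

set_option autoImplicit false
set_option linter.style.haveILetI false
set_option maxHeartbeats 800000

universe u v

open Polynomial

namespace Groth.Agent.HilbZeta12.Planar

section Basic

variable {A : Type u} [CommRing A]

/-- extension of scalars of `A[X][Y]` -/
noncomputable abbrev mapP {B : Type v} [CommRing B] (φ : A →+* B) : A[X][X] →+* B[X][X] :=
  Polynomial.mapRingHom (Polynomial.mapRingHom φ)

theorem mapP_comp {B C' : Type u} [CommRing B] [CommRing C'] (φ : A →+* B) (ψ : B →+* C') :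
    (mapP ψ).comp (mapP φ) = mapP (ψ.comp φ) := by
  simp [mapP, Polynomial.mapRingHom_comp]

theorem mapP_CC {B : Type v} [CommRing B] (φ : A →+* B) (a : A) : mapP φ (CC a) = CC (φ a) := by
  simp [mapP, CC]

/-- the ideal `(I : Y)` -/
noncomputable def colonI (I : Ideal A[X][X]) : Ideal A[X][X] :=
  Submodule.comap (LinearMap.mulLeft A[X][X] (X : A[X][X])) I

theorem coe_colonI (I : Ideal A[X][X]) : (colonI I : Set A[X][X]) = colonY I := Set.ext fun _ => Iff.rfl

theorem floor_unique [IsDomain A] {I : Ideal A[X][X]} {μ μ' : ℕ} (h : Floor I μ) (h' : Floor I μ') :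
    μ = μ' := by
  have aux : ∀ {a b : ℕ}, Floor I a → Floor I b → a ≤ b := fun {a b} ha hb => by
    obtain ⟨g, hg⟩ := hb.2
    have := ha.1 _ hg
    simp only [coeff_add, coeff_C_zero, mul_coeff_zero, coeff_X_zero, zero_mul, add_zero] at this
    have h2 := degree_le_of_dvd this (monic_X_pow b).ne_zero
    rw [degree_X_pow, degree_X_pow] at h2
    exact_mod_cast h2
  exact le_antisymm (aux h h') (aux h' h)

/-- a basis modulo `I` is a basis of the quotient -/
noncomputable def basisOfIsBasisMod {d : ℕ} {I : Ideal A[X][X]} {b : Fin d → A[X][X]}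
    (h : IsBasisMod Set.univ I b) : Module.Basis (Fin d) A (A[X][X] ⧸ I) := by
  let L : (Fin d → A) →ₗ[A] A[X][X] ⧸ I :=
    Fintype.linearCombination A (fun i => Ideal.Quotient.mk I (b i))
  have hL : ∀ c, L c = Ideal.Quotient.mk I (∑ i, CC (c i) * b i) := fun c => by
    simp only [L, Fintype.linearCombination_apply, map_sum, map_mul]
    refine Finset.sum_congr rfl fun i _ => ?_
    show c i • Ideal.Quotient.mkₐ A I (b i) = _
    rw [← map_smul, Algebra.smul_def, map_mul]
    rfl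
  refine Module.Basis.ofEquivFun (LinearEquiv.ofBijective L ⟨fun c c' e => ?_, fun q => ?_⟩).symm
  · rw [hL, hL, Ideal.Quotient.eq] at e
    exact (h.2 (∑ i, CC (c i) * b i) trivial).unique (by simp) e
  · obtain ⟨f, rfl⟩ := Ideal.Quotient.mk_surjective q
    obtain ⟨c, hc, -⟩ := h.2 f trivial
    exact ⟨c, by rw [hL]; exact (Ideal.Quotient.eq.2 hc).symm⟩

theorem finrank_of_isBasisMod [Nontrivial A] {d : ℕ} {I : Ideal A[X][X]} {b : Fin d → A[X][X]}
    (h : IsBasisMod Set.univ I b) : Module.finrank A (A[X][X] ⧸ I) = d := by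
  rw [Module.finrank_eq_card_basis (basisOfIsBasisMod h), Fintype.card_fin]

theorem floor_exists {K : Type u} [Field K] {J : Ideal K[X][X]} {N : ℕ} (h : C (X ^ N) ∈ J) :
    ∃ μ, Floor J μ := by
  have hsurj : Function.Surjective (Polynomial.constantCoeff : K[X][X] →+* K[X]) :=
    fun p => ⟨C p, by simp⟩
  let L := J.map (Polynomial.constantCoeff : K[X][X] →+* K[X])
  obtain ⟨q, hq⟩ := (IsPrincipalIdealRing.principal L).principal
  have hN : X ^ N ∈ L := by
    have := Ideal.mem_map_of_mem (Polynomial.constantCoeff : K[X][X] →+* K[X]) h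
    simpa [L, -map_pow] using this
  rw [hq] at hN
  obtain ⟨i, -, hi⟩ := (dvd_prime_pow (Polynomial.prime_X (R := K)) N).1 (Ideal.mem_span_singleton.1 hN)
  refine ⟨i, fun f hf => ?_, ?_⟩
  · have : Polynomial.constantCoeff f ∈ L := Ideal.mem_map_of_mem _ hf
    rw [hq] at this
    exact hi.symm.dvd.trans (Ideal.mem_span_singleton.1 this)
  · have : X ^ i ∈ L := by rw [hq]; exact Ideal.mem_span_singleton.2 hi.dvd
    obtain ⟨f, hf, hf0⟩ := (Ideal.mem_map_iff_of_surjective _ hsurj).1 this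
    obtain ⟨v, hv⟩ := exists_eq_C_add_mul f
    exact ⟨v, by rw [show X ^ i = f.coeff 0 from hf0.symm, ← hv]; exact hf⟩

end Basic

variable (k : Type u) [Field k]

/-- a cell: a family of ideals over an affine space -/
structure PCell (n d μ : ℕ) where
  /-- the dimension -/
  m : ℕ
  /-- the ideal -/
  I : Ideal (MvPolynomial (Fin m) k)[X][X]
  /-- the basis of the quotient -/
  b : Fin d → (MvPolynomial (Fin m) k)[X][X]
  /-- the kernel of multiplication by `Y` -/
  h : Fin μ → (MvPolynomial (Fin m) k)[X][X]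
  /-- it is a cell after every change of coefficients -/
  cell : ∀ (A : Type u) [CommRing A] (φ : MvPolynomial (Fin m) k →+* A),
    IsCell n (I.map (mapP φ)) (fun i => mapP φ (b i)) (fun i => mapP φ (h i))

variable {k}

/-- the fibre of a cell at a point -/
noncomputable def PCell.at {n d μ : ℕ} (c : PCell k n d μ) {K : Type u} [CommRing K] [Algebra k K]
    (v : Fin c.m → K) : Ideal K[X][X] :=
  c.I.map (mapP (MvPolynomial.aeval v).toRingHom)

theorem PCell.isCell_at {n d μ : ℕ} (c : PCell k n d μ) {K : Type u} [CommRing K] [Algebra k K]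
    (v : Fin c.m → K) : ∃ b h, IsCell n (d := d) (μ := μ) (c.at v) b h :=
  ⟨_, _, c.cell K _⟩

section Step

variable {n d₁ μ₁ : ℕ} (c : PCell k n d₁ μ₁) (δ : ℕ)

/-- the inclusion of the coefficient rings -/
noncomputable abbrev incl : MvPolynomial (Fin c.m) k →+* MvPolynomial (Fin (c.m + μ₁)) k :=
  (MvPolynomial.rename (Fin.castAdd μ₁)).toRingHom

theorem PCell.exists_g₁ : ∃ g, C (X ^ μ₁) + X * g ∈ c.I := by
  obtain ⟨g, hg⟩ := (c.cell _ (RingHom.id _)).floor.2
  refine ⟨g, ?_⟩
  rwa [show mapP (RingHom.id (MvPolynomial (Fin c.m) k)) = RingHom.id _ by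
    simp [mapP, Polynomial.mapRingHom_id], Ideal.map_id] at hg

/-- a chosen element lifting `X ^ μ` -/
noncomputable def PCell.g₁ : (MvPolynomial (Fin c.m) k)[X][X] := c.exists_g₁.choose

/-- the general element lifting `X ^ (δ + μ)` -/
noncomputable def newG : (MvPolynomial (Fin (c.m + μ₁)) k)[X][X] :=
  C (X ^ δ) * mapP (incl c) c.g₁ +
    ∑ l : Fin μ₁, CC (MvPolynomial.X (Fin.natAdd c.m l)) * mapP (incl c) (c.h l)

/-- the family of stepped ideals -/
noncomputable def newI : Ideal (MvPolynomial (Fin (c.m + μ₁)) k)[X][X] :=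
  Ideal.span {C (X ^ (δ + μ₁)) + X * newG c δ} ⊔ Ideal.span {X} * c.I.map (mapP (incl c))

theorem mapP_incl {A : Type u} [CommRing A] (φ : MvPolynomial (Fin (c.m + μ₁)) k →+* A)
    (p : (MvPolynomial (Fin c.m) k)[X][X]) : mapP φ (mapP (incl c) p) = mapP (φ.comp (incl c)) p := by
  rw [← mapP_comp]; rfl

theorem map_newI {A : Type u} [CommRing A] (φ : MvPolynomial (Fin (c.m + μ₁)) k →+* A) :
    (newI c δ).map (mapP φ) = Ideal.span {C (X ^ (δ + μ₁)) + X * mapP φ (newG c δ)} ⊔
      Ideal.span {X} * c.I.map (mapP (φ.comp (incl c))) := by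
  rw [newI, Ideal.map_sup, Ideal.map_span, Ideal.map_mul, Ideal.map_span, Ideal.map_map, mapP_comp]
  simp [mapP]

theorem mapP_newG {A : Type u} [CommRing A] (φ : MvPolynomial (Fin (c.m + μ₁)) k →+* A) :
    mapP φ (newG c δ) = C (X ^ δ) * mapP (φ.comp (incl c)) c.g₁ +
      ∑ l : Fin μ₁, CC (φ (MvPolynomial.X (Fin.natAdd c.m l))) * mapP (φ.comp (incl c)) (c.h l) := by
  rw [newG, map_add, map_mul, map_sum, mapP_incl]
  congr 1
  · simp [mapP]
  · exact Finset.sum_congr rfl fun l _ => by rw [map_mul, mapP_CC, mapP_incl]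

theorem g₁_mem {A : Type u} [CommRing A] (φ : MvPolynomial (Fin c.m) k →+* A) :
    C (X ^ μ₁) + X * mapP φ c.g₁ ∈ c.I.map (mapP φ) := by
  have := Ideal.mem_map_of_mem (mapP φ) c.exists_g₁.choose_spec
  simpa [mapP, PCell.g₁] using this

theorem newF_mem {A : Type u} [CommRing A] (φ : MvPolynomial (Fin (c.m + μ₁)) k →+* A) :
    C (X ^ (δ + μ₁)) + X * mapP φ (newG c δ) ∈ c.I.map (mapP (φ.comp (incl c))) := by
  rw [mapP_newG, pow_add, map_mul, mul_add, Finset.mul_sum, ← add_assoc]
  refine add_mem ?_ (sum_mem fun l _ => ?_)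
  · convert Ideal.mul_mem_left _ (C (X ^ δ) : A[X][X]) (g₁_mem c (φ.comp (incl c))) using 1
    ring
  · rw [mul_left_comm]
    exact Ideal.mul_mem_left _ _ ((c.cell A (φ.comp (incl c))).kerY.1 l)

/-- **The stepped cell.** -/
noncomputable def newCell : PCell k (n + 1) ((δ + μ₁) + d₁) (δ + μ₁) where
  m := c.m + μ₁
  I := newI c δ
  b := Fin.append (fun a : Fin (δ + μ₁) => C (X ^ (a : ℕ))) (fun i => X * mapP (incl c) (c.b i))
  h := Fin.append (fun i : Fin δ => C (X ^ (i : ℕ)) * (C (X ^ μ₁) + X * mapP (incl c) c.g₁))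
    (fun l => X * mapP (incl c) (c.h l))
  cell A _ φ := by
    have := isCell_step (c.cell A (φ.comp (incl c))) (mapP (φ.comp (incl c)) c.g₁) (mapP φ (newG c δ))
      (g₁_mem c _) (newF_mem c δ φ)
    rw [map_newI]
    convert this using 1
    · funext i
      induction i using Fin.addCases with
      | left i => simp only [Fin.append_left]; simp [mapP]
      | right i => simp only [Fin.append_right, map_mul, mapP_incl]; simp [mapP]
    · funext i
      induction i using Fin.addCases with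
      | left i => simp only [Fin.append_left, map_mul, map_add, mapP_incl]; simp [mapP]
      | right i => simp only [Fin.append_right, map_mul, mapP_incl]; simp [mapP]

end Step

/-- transport of cells along equalities of the invariants -/
def PCell.cast {n d μ d' μ' : ℕ} (hd : d = d') (hμ : μ = μ') (c : PCell k n d μ) : PCell k n d' μ' :=
  hd ▸ hμ ▸ c

variable (k)

/-- the count of cells of given invariants, weighted by `q ^ dimension` -/
def cellCount {S : Type v} [CommRing S] (q : S) : ℕ → ℕ → ℕ → S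
  | 0, d, μ => if d = 0 ∧ μ = 0 then 1 else 0
  | n + 1, d, μ => if μ ≤ d then ∑ ν ∈ Finset.range (μ + 1), q ^ ν * cellCount q n (d - μ) ν else 0

/-- an atlas of cells for ideals containing `Y ^ n` -/
structure Atlas (n : ℕ) where
  /-- the index types -/
  ι : ℕ → ℕ → Type
  /-- they are finite -/
  fin : ∀ d μ, Fintype (ι d μ)
  /-- the cells -/
  cell : ∀ d μ, ι d μ → PCell k n d μ
  /-- the count -/
  count : ∀ (S : Type (u + 1)) [CommRing S] (q : S) (d μ : ℕ),
    ∑ i ∈ (fin d μ).elems, q ^ (cell d μ i).m = cellCount q n d μ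
  /-- every point is in a cell -/
  exists_point : ∀ (K : Type u) [Field K] [Algebra k K] (J : Ideal K[X][X]), X ^ n ∈ J →
    (∃ N : ℕ, C (X ^ N) ∈ J) → ∃ d μ, ∃ (i : ι d μ) (v : Fin (cell d μ i).m → K), (cell d μ i).at v = J
  /-- in exactly one way -/
  unique : ∀ (K : Type u) [Field K] [Algebra k K] (d μ : ℕ) (p q : Σ i : ι d μ, Fin (cell d μ i).m → K),
    (cell d μ p.1).at p.2 = (cell d μ q.1).at q.2 → p = q

/-- the atlas for `n = 0` -/
noncomputable def atlasZero : Atlas k 0 where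
  ι d μ := PLift (d = 0 ∧ μ = 0)
  fin d μ := if h : d = 0 ∧ μ = 0 then ⟨{⟨h⟩}, fun x => by simp⟩ else ⟨∅, fun x => absurd x.down h⟩
  cell d μ i :=
    PCell.cast i.down.1.symm i.down.2.symm
      { m := 0
        I := ⊤
        b := Fin.elim0
        h := Fin.elim0
        cell := fun A _ φ => by
          rw [Ideal.map_top]
          exact ⟨trivial, ⟨fun f _ => by simp, 0, trivial⟩,
            ⟨fun i => i.elim0, fun f _ => ⟨Fin.elim0, trivial, fun c _ => funext fun i => i.elim0⟩⟩,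
            ⟨fun i => i.elim0, fun f _ => ⟨Fin.elim0, trivial, fun c _ => funext fun i => i.elim0⟩⟩⟩ }
  count S _ q d μ := by
    by_cases h : d = 0 ∧ μ = 0
    · obtain ⟨rfl, rfl⟩ := h
      rw [dif_pos ⟨rfl, rfl⟩]
      simp [cellCount, PCell.cast]
    · rw [dif_neg h]
      simp [cellCount, h]
  exists_point K _ _ J hJ _ := by
    refine ⟨0, 0, ⟨⟨rfl, rfl⟩⟩, Fin.elim0, ?_⟩
    rw [(Ideal.eq_top_iff_one J).2 (by simpa using hJ)]
    exact Ideal.map_top _
  unique K _ _ d μ := by
    rintro ⟨⟨rfl, rfl⟩, v⟩ ⟨⟨hd, hμ⟩, w⟩ -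
    exact congrArg (Sigma.mk _) (funext fun i => (i : Fin 0).elim0)

variable {k}

theorem at_newCell {n d₁ μ₁ : ℕ} (c : PCell k n d₁ μ₁) (δ : ℕ) {K : Type u} [CommRing K] [Algebra k K]
    (v : Fin (c.m + μ₁) → K) :
    (newCell c δ).at v = Ideal.span {C (X ^ (δ + μ₁)) + X *
        (C (X ^ δ) * mapP (MvPolynomial.aeval (fun i => v (Fin.castAdd μ₁ i))).toRingHom c.g₁ +
          ∑ l : Fin μ₁, CC (v (Fin.natAdd c.m l)) *
            mapP (MvPolynomial.aeval (fun i => v (Fin.castAdd μ₁ i))).toRingHom (c.h l))} ⊔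
      Ideal.span {X} * c.at (fun i => v (Fin.castAdd μ₁ i)) := by
  have he : (MvPolynomial.aeval (R := k) v).toRingHom.comp (incl c) =
      (MvPolynomial.aeval (fun i => v (Fin.castAdd μ₁ i))).toRingHom := by
    refine MvPolynomial.ringHom_ext (fun r => ?_) (fun i => ?_) <;> simp [incl]
  refine (map_newI c δ (MvPolynomial.aeval (R := k) v).toRingHom).trans ?_
  rw [mapP_newG, he]
  simp [PCell.at]

theorem colonI_at_newCell {n d₁ μ₁ : ℕ} (c : PCell k n d₁ μ₁) (δ : ℕ) {K : Type u} [CommRing K]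
    [Algebra k K] (v : Fin (c.m + μ₁) → K) :
    colonI ((newCell c δ).at v) = c.at (fun i => v (Fin.castAdd μ₁ i)) := by
  have he : (MvPolynomial.aeval (R := k) v).toRingHom.comp (incl c) =
      (MvPolynomial.aeval (fun i => v (Fin.castAdd μ₁ i))).toRingHom := by
    refine MvPolynomial.ringHom_ext (fun r => ?_) (fun i => ?_) <;> simp [incl]
  apply SetLike.coe_injective
  rw [coe_colonI]
  refine (congrArg colonY (map_newI c δ (MvPolynomial.aeval (R := k) v).toRingHom)).trans ?_
  rw [colonY_step _ _ _ (newF_mem c δ _), he]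
  rfl

variable (k)

/-- the next atlas -/
noncomputable def atlasSucc {n : ℕ} (T : Atlas k n) : Atlas k (n + 1) where
  ι d μ := Σ ν : {ν : ℕ // ν ≤ μ ∧ μ ≤ d}, T.ι (d - μ) ν.1
  fin d μ :=
    letI : ∀ a b, Fintype (T.ι a b) := T.fin
    letI : Fintype {ν : ℕ // ν ≤ μ ∧ μ ≤ d} :=
      Fintype.subtype ((Finset.range (μ + 1)).filter fun _ => μ ≤ d) (fun x => by
        simp only [Finset.mem_filter, Finset.mem_range, Nat.lt_succ_iff])
    inferInstance
  cell d μ i :=
    PCell.cast (show μ - i.1.1 + i.1.1 + (d - μ) = d by have := i.1.2; omega) (Nat.sub_add_cancel i.1.2.1)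
      (newCell (T.cell (d - μ) i.1.1 i.2) (μ - i.1.1))
  count S _ q d μ := by
    letI : ∀ a b, Fintype (T.ι a b) := T.fin
    letI : Fintype {ν : ℕ // ν ≤ μ ∧ μ ≤ d} :=
      Fintype.subtype ((Finset.range (μ + 1)).filter fun _ => μ ≤ d) (fun x => by
        simp only [Finset.mem_filter, Finset.mem_range, Nat.lt_succ_iff])
    have hm : ∀ {d d' μ μ' : ℕ} (hd : d = d') (hμ : μ = μ') (c : PCell k (n + 1) d μ),
        (PCell.cast hd hμ c).m = c.m := by intros; subst_vars; rfl
    show ∑ i : (Σ ν : {ν : ℕ // ν ≤ μ ∧ μ ≤ d}, T.ι (d - μ) ν.1), _ = _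
    simp only [hm, newCell]
    rw [Fintype.sum_sigma]
    by_cases h : μ ≤ d
    · rw [cellCount, if_pos h]
      rw [Finset.sum_subtype (p := fun ν => ν ≤ μ ∧ μ ≤ d) (Finset.range (μ + 1))
        (fun x => by simp [Nat.lt_succ_iff, h])]
      refine Finset.sum_congr rfl fun ν _ => ?_
      rw [← T.count S q (d - μ) ν.1, Finset.mul_sum]
      exact Finset.sum_congr rfl fun i _ => by rw [← pow_add, add_comm]
    · rw [cellCount, if_neg h]
      exact Finset.sum_eq_zero fun ν _ => absurd ν.2.2 h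
  exists_point K _ _ J hJn hN := by
    have hcast : ∀ {d d' μ μ' : ℕ} (hd : d = d') (hμ : μ = μ') (c : PCell k (n + 1) d μ)
        (v : Fin c.m → K), ∃ v' : Fin (PCell.cast hd hμ c).m → K, (PCell.cast hd hμ c).at v' = c.at v := by
      intros; subst_vars; exact ⟨_, rfl⟩
    obtain ⟨N, hN⟩ := hN
    obtain ⟨d₁, μ₁, i, v₀, hv₀⟩ := T.exists_point K (colonI J)
      (show X * X ^ n ∈ J by rw [← pow_succ']; exact hJn) ⟨N, show X * _ ∈ J from Ideal.mul_mem_left _ _ hN⟩
    obtain ⟨μ₀, hμ₀⟩ := floor_exists hN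
    obtain ⟨g, hg⟩ := hμ₀.2
    let c := T.cell d₁ μ₁ i
    let φ := (MvPolynomial.aeval (R := k) v₀).toRingHom
    have hsub : ∀ f ∈ J, f ∈ c.at v₀ := fun f hf => by
      rw [hv₀]; exact Ideal.mul_mem_left _ _ hf
    have hμ : μ₁ ≤ μ₀ := by
      obtain ⟨b', h', hc'⟩ := c.isCell_at v₀
      have := hc'.floor.1 _ (hsub _ hg)
      simp only [coeff_add, coeff_C_zero, mul_coeff_zero, coeff_X_zero, zero_mul, add_zero] at this
      have h2 := degree_le_of_dvd this (monic_X_pow μ₀).ne_zero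
      rw [degree_X_pow, degree_X_pow] at h2
      exact_mod_cast h2
    obtain ⟨δ, rfl⟩ : ∃ δ, μ₀ = δ + μ₁ := ⟨μ₀ - μ₁, (Nat.sub_add_cancel hμ).symm⟩
    have hdiff : g - C (X ^ δ) * mapP φ c.g₁ ∈ colonY (c.at v₀) := by
      show X * _ ∈ c.at v₀
      have := sub_mem (hsub _ hg) (Ideal.mul_mem_left _ (C (X ^ δ) : K[X][X]) (g₁_mem c φ))
      convert this using 1
      rw [pow_add, map_mul]; ring
    obtain ⟨w, hw, -⟩ := (c.cell K φ).kerY.2 _ hdiff
    let v : Fin (c.m + μ₁) → K := Fin.append v₀ w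
    have hvl : (fun i => v (Fin.castAdd μ₁ i)) = v₀ := funext fun i => Fin.append_left _ _ i
    have key : (newCell c δ).at v = J := by
      rw [at_newCell, hvl]
      simp only [v, Fin.append_right]
      set g' := C (X ^ δ) * mapP φ c.g₁ + ∑ l : Fin μ₁, CC (w l) * mapP φ (c.h l) with hg'
      have hgg : g - g' ∈ c.at v₀ := by rw [hg', ← sub_sub]; exact hw
      have hF' : C (X ^ (δ + μ₁)) + X * g' ∈ J := by
        have : X * (g - g') ∈ J := by rw [hv₀] at hgg; exact hgg
        convert sub_mem hg this using 1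
        ring
      refine le_antisymm (sup_le ((Ideal.span_singleton_le_iff_mem _).2 hF') ?_) fun f hf => ?_
      · rw [Ideal.span_singleton_mul_le_iff, hv₀]
        exact fun z hz => hz
      · obtain ⟨u, hu⟩ := hμ₀.1 f hf
        obtain ⟨v', hv'⟩ := exists_eq_C_add_mul (f - C u * (C (X ^ (δ + μ₁)) + X * g'))
        have h0 : (f - C u * (C (X ^ (δ + μ₁)) + X * g')).coeff 0 = 0 := by
          simp only [coeff_sub, mul_coeff_zero, coeff_add, coeff_C_zero, coeff_X_zero, zero_mul, add_zero]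
          rw [hu]; ring
        rw [h0, map_zero, zero_add] at hv'
        refine (mem_step_iff _ _ _).2 ⟨C u, v', ?_, by linear_combination hv'⟩
        rw [hv₀]
        show X * v' ∈ J
        rw [← hv']
        exact sub_mem hf (Ideal.mul_mem_left _ _ hF')
    let νs : {ν : ℕ // ν ≤ δ + μ₁ ∧ δ + μ₁ ≤ δ + μ₁ + d₁} := ⟨μ₁, by omega, by omega⟩
    have h1 : δ + μ₁ + d₁ - (δ + μ₁) = d₁ := by omega
    have h2 : δ + μ₁ - μ₁ = δ := by omega
    refine ⟨δ + μ₁ + d₁, δ + μ₁, ⟨νs, h1.symm ▸ i⟩, ?_⟩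
    have gen : ∀ (e d₂ : ℕ) (i' : T.ι e μ₁) (δ' : ℕ) (he : e = d₁) (hi : he ▸ i' = i) (hδ : δ' = δ)
        (hd : δ' + μ₁ + e = d₂) (hm : δ' + μ₁ = δ + μ₁),
        ∃ v' : Fin (PCell.cast hd hm (newCell (T.cell e μ₁ i') δ')).m → K,
          (PCell.cast hd hm (newCell (T.cell e μ₁ i') δ')).at v' = J := by
      intro e d₂ i' δ' he hi hδ hd hm
      subst he hδ hi
      obtain ⟨v', hv'⟩ := hcast hd hm (newCell c δ') v
      exact ⟨v', hv'.trans key⟩
    exact gen _ _ _ _ h1 (by
      have : ∀ (e : ℕ) (he : e = d₁), he ▸ (he.symm ▸ i : T.ι e μ₁) = i := by intro e he; subst he; rfl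
      exact this _ h1) h2 _ _
  unique K _ _ d μ := by
    have hcast : ∀ {d d' μ μ' : ℕ} (hd : d = d') (hμ : μ = μ') (c : PCell k (n + 1) d μ)
        (v : Fin (PCell.cast hd hμ c).m → K), ∃ v' : Fin c.m → K,
        (PCell.cast hd hμ c).at v = c.at v' ∧ HEq v v' := by
      intros; subst_vars; exact ⟨_, rfl, HEq.rfl⟩
    rintro ⟨⟨⟨ν, hν⟩, i⟩, v⟩ ⟨⟨⟨ν', hν'⟩, i'⟩, v'⟩ e
    obtain ⟨w, hw, hvw⟩ := hcast _ _ _ v
    obtain ⟨w', hw', hvw'⟩ := hcast _ _ _ v'
    have e' : (newCell (T.cell (d - μ) ν i) (μ - ν)).at w =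
        (newCell (T.cell (d - μ) ν' i') (μ - ν')).at w' := hw.symm.trans (e.trans hw')
    have e1 := congrArg colonI e'
    rw [colonI_at_newCell, colonI_at_newCell] at e1
    obtain rfl : ν = ν' := by
      obtain ⟨b, h, hc⟩ := (T.cell (d - μ) ν i).isCell_at (fun j => w (Fin.castAdd ν j))
      obtain ⟨b', h', hc'⟩ := (T.cell (d - μ) ν' i').isCell_at (fun j => w' (Fin.castAdd ν' j))
      exact floor_unique hc.floor (e1 ▸ hc'.floor)
    have e2 := T.unique K (d - μ) ν ⟨i, fun j => w (Fin.castAdd ν j)⟩ ⟨i', fun j => w' (Fin.castAdd ν j)⟩ e1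
    obtain ⟨rfl, e3⟩ := Sigma.mk.inj_iff.1 e2
    have e3' := eq_of_heq e3
    suffices w = w' by
      subst this
      have : v = v' := eq_of_heq (hvw.trans hvw'.symm)
      rw [this]
    let c := T.cell (d - μ) ν i
    let φ := (MvPolynomial.aeval (R := k) fun j => w (Fin.castAdd ν j)).toRingHom
    have hker := (c.cell K φ).kerY
    have hdiff : ∑ l : Fin ν, CC (w (Fin.natAdd _ l)) * mapP φ (c.h l) -
        ∑ l : Fin ν, CC (w' (Fin.natAdd _ l)) * mapP φ (c.h l) ∈ c.I.map (mapP φ) := by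
      have hmem : C (X ^ (μ - ν + ν)) + X * (C (X ^ (μ - ν)) * mapP φ c.g₁ +
          ∑ l : Fin ν, CC (w' (Fin.natAdd c.m l)) * mapP φ (c.h l)) ∈ (newCell c (μ - ν)).at w := by
        rw [e', at_newCell]
        refine Ideal.mem_sup_left ?_
        simp only [φ, e3']
        exact Ideal.subset_span rfl
      have hmem0 : C (X ^ (μ - ν + ν)) + X * (C (X ^ (μ - ν)) * mapP φ c.g₁ +
          ∑ l : Fin ν, CC (w (Fin.natAdd c.m l)) * mapP φ (c.h l)) ∈ (newCell c (μ - ν)).at w := by
        rw [at_newCell]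
        exact Ideal.mem_sup_left (Ideal.subset_span rfl)
      have h3 : ∑ l : Fin ν, CC (w (Fin.natAdd _ l)) * mapP φ (c.h l) -
          ∑ l : Fin ν, CC (w' (Fin.natAdd _ l)) * mapP φ (c.h l) ∈ colonI ((newCell c (μ - ν)).at w) := by
        show X * _ ∈ (newCell c (μ - ν)).at w
        convert sub_mem hmem0 hmem using 1
        ring
      rw [colonI_at_newCell] at h3
      exact h3
    have hw2 : (fun l => w (Fin.natAdd c.m l)) = fun l => w' (Fin.natAdd c.m l) := by
      refine (hker.2 (∑ l : Fin ν, CC (w (Fin.natAdd _ l)) * mapP φ (c.h l)) ?_).unique ?_ hdiff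
      · show _ ∈ colonY _
        rw [← coe_colonI]
        exact sum_mem fun l _ => Ideal.mul_mem_left _ _ (hker.1 l)
      · show _ - _ ∈ c.I.map (mapP φ)
        rw [sub_self]; exact zero_mem _
    funext j
    induction j using Fin.addCases with
    | left j => exact congrFun e3' j
    | right j => exact congrFun hw2 j

/-- the atlas -/
noncomputable def atlas : ∀ n, Atlas k n
  | 0 => atlasZero k
  | n + 1 => atlasSucc k (atlas n)

end Groth.Agent.HilbZeta12.Planar
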