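import Groth.Agent.HilbZeta12.Count
import Groth.Agent.HilbZeta12.Cells
import Mathlib.RingTheory.TensorProduct.MvPolynomial
import Mathlib.LinearAlgebra.Eigenspace.Zero

/-!
Classes of punctual Hilbert schemes of planar affine schemes containing a thickened line.
-/

set_option autoImplicit false
set_option linter.style.haveILetI false
set_option maxHeartbeats 1600000
set_option backward.isDefEq.respectTransparency false
set_option backward.isDefEq.respectTransparency.types false

universe u

open CategoryTheory CategoryTheory.Limits AlgebraicGeometry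
open scoped TensorProduct

noncomputable section

namespace Groth.Agent.HilbZeta12

open Groth.Agent.Grass5.Punct

variable {k : Type u} [Field k]

/-- the class of the spectrum of an algebra of finite type -/
abbrev clSpec (B : Type u) [CommRing B] [Algebra k B] [Algebra.FiniteType k B] :
    K0Var.K (Spec (CommRingCat.of k)) :=
  K0Var.cl (Spec.map (CommRingCat.ofHom (algebraMap k B)))

theorem clSpec_congr {B B' : Type u} [CommRing B] [Algebra k B] [Algebra.FiniteType k B] [CommRing B']
    [Algebra k B'] [Algebra.FiniteType k B'] (e : B ≃ₐ[k] B') : clSpec (k := k) B = clSpec B' := by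
  refine K0Var.cl_congr _ _ (Scheme.Spec.mapIso e.symm.toRingEquiv.toCommRingCatIso.op) ?_
  simp only [Functor.mapIso_hom, Iso.op_hom, Scheme.Spec_map, Quiver.Hom.unop_op, ← Spec.map_comp]
  congr 1
  ext c
  exact e.symm.commutes c

theorem clSpec_self : clSpec (k := k) k = 1 := by
  refine (K0Var.cl_congr _ _ (Iso.refl _) ?_).trans (K0Var.cl_one _)
  rw [Iso.refl_hom, Category.id_comp, Algebra.algebraMap_self, CommRingCat.ofHom_id, Spec.map_id]

theorem clSpec_tensor (B B' : Type u) [CommRing B] [Algebra k B] [Algebra.FiniteType k B] [CommRing B']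
    [Algebra k B'] [Algebra.FiniteType k B'] [Algebra.FiniteType k (B ⊗[k] B')] :
    clSpec (k := k) (B ⊗[k] B') = clSpec B * clSpec B' := by
  rw [clSpec, clSpec, clSpec, ← K0Var.cl_mul]
  refine (K0Var.cl_congr _ _ (pullbackSpecIso k B B') ?_).symm
  rw [← Category.id_comp (Spec.map (CommRingCat.ofHom (algebraMap k (B ⊗[k] B'))))]
  rw [show Spec.map (CommRingCat.ofHom (algebraMap k (B ⊗[k] B'))) =
    Spec.map (CommRingCat.ofHom (algebraMap B (B ⊗[k] B'))) ≫ Spec.map (CommRingCat.ofHom (algebraMap k B)) by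
      rw [← Spec.map_comp]; rfl, Category.id_comp, pullbackSpecIso_hom_fst'_assoc]

instance finiteType_tensor (B B' : Type u) [CommRing B] [Algebra k B] [Algebra.FiniteType k B] [CommRing B']
    [Algebra k B'] [Algebra.FiniteType k B'] : Algebra.FiniteType k (B ⊗[k] B') :=
  Algebra.FiniteType.trans (S := B) inferInstance inferInstance

theorem clSpec_affineLine : clSpec (k := k) (MvPolynomial PUnit.{u + 1} k) = K0Var.L (Spec (CommRingCat.of k)) := by
  refine (K0Var.cl_congr _ _ (AffineSpace.SpecIso PUnit.{u + 1} (CommRingCat.of k)).symm ?_)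
  rw [Iso.symm_hom, AffineSpace.SpecIso_inv_over]
  rfl

theorem clSpec_mvPolynomial (m : ℕ) :
    clSpec (k := k) (MvPolynomial (Fin m) k) = K0Var.L (Spec (CommRingCat.of k)) ^ m := by
  induction m with
  | zero => rw [pow_zero, ← clSpec_self]; exact clSpec_congr (MvPolynomial.isEmptyAlgEquiv k (Fin 0))
  | succ m ih =>
    rw [pow_succ, ← ih, ← clSpec_affineLine, ← clSpec_tensor]
    exact (clSpec_congr ((MvPolynomial.tensorEquivSum k (Fin m) PUnit.{u + 1} k).restrictScalars k |>.trans
      (MvPolynomial.renameEquiv k (finSumFinEquiv.symm.trans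
        (Equiv.sumCongr (Equiv.refl (Fin m)) (Equiv.ofUnique (Fin 1) PUnit.{u + 1}))).symm))).symm

section Planar

open Planar

variable {R : Type u} [CommRing R] [Algebra k R] (x y : R)

/-- evaluation at `(x, y)` -/
def planeEval (B : Type u) [CommRing B] [Algebra k B] : Polynomial (Polynomial B) →+* B ⊗[k] R :=
  Polynomial.eval₂RingHom
    (Polynomial.eval₂RingHom (Algebra.TensorProduct.includeLeftRingHom : B →+* B ⊗[k] R) ((1 : B) ⊗ₜ[k] x))
    ((1 : B) ⊗ₜ[k] y)

theorem planeEval_CC {B : Type u} [CommRing B] [Algebra k B] (b : B) :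
    planeEval (k := k) x y B (CC b) = b ⊗ₜ[k] 1 := by
  simp [planeEval, CC]

theorem planeEval_natural {B B' : Type u} [CommRing B] [Algebra k B] [CommRing B'] [Algebra k B']
    (φ : B →ₐ[k] B') :
    (bcA R φ).toRingHom.comp (planeEval (k := k) x y B) = (planeEval (k := k) x y B').comp (mapP φ.toRingHom) := by
  refine Polynomial.ringHom_ext (fun p => ?_) ?_
  · refine RingHom.congr_fun (?_ : (((bcA R φ).toRingHom.comp (planeEval (k := k) x y B)).comp Polynomial.C) =
      (((planeEval (k := k) x y B').comp (mapP φ.toRingHom)).comp Polynomial.C)) p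
    refine Polynomial.ringHom_ext (fun b => ?_) ?_ <;> simp [planeEval, mapP]
  · simp [planeEval, mapP]

variable {x y}

theorem planeEval_surjective (hgen : Function.Surjective (MvPolynomial.aeval (R := k) ![x, y]))
    (B : Type u) [CommRing B] [Algebra k B] : Function.Surjective (planeEval (k := k) x y B) := by
  intro z
  induction z with
  | zero => exact ⟨0, map_zero _⟩
  | add a b ha hb =>
    obtain ⟨p, rfl⟩ := ha
    obtain ⟨q, rfl⟩ := hb
    exact ⟨p + q, map_add _ _ _⟩
  | tmul b r =>
    obtain ⟨p, rfl⟩ := hgen r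
    induction p using MvPolynomial.induction_on generalizing b with
    | C c =>
      refine ⟨CC (b * algebraMap k B c), ?_⟩
      rw [planeEval_CC, MvPolynomial.algHom_C, Algebra.algebraMap_eq_smul_one (A := R), TensorProduct.tmul_smul,
        TensorProduct.smul_tmul', Algebra.smul_def, mul_comm]
    | add p q hp hq =>
      obtain ⟨a, ha⟩ := hp b
      obtain ⟨a', ha'⟩ := hq b
      exact ⟨a + a', by rw [map_add, map_add, TensorProduct.tmul_add, ha, ha']⟩
    | mul_X p i hp =>
      obtain ⟨a, ha⟩ := hp b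
      refine ⟨a * (if i = 0 then Polynomial.C Polynomial.X else Polynomial.X), ?_⟩
      rw [map_mul, map_mul, ha]
      fin_cases i <;> simp [planeEval]

theorem comap_map_planeEval {n : ℕ} (hgen : Function.Surjective (MvPolynomial.aeval (R := k) ![x, y]))
    {B : Type u} [CommRing B] [Algebra k B]
    (hker : RingHom.ker (planeEval (k := k) x y B) ≤ Ideal.span {(Polynomial.X : Polynomial (Polynomial B)) ^ n})
    {I : Ideal (Polynomial (Polynomial B))} (h : (Polynomial.X : Polynomial (Polynomial B)) ^ n ∈ I) :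
    (I.map (planeEval (k := k) x y B)).comap (planeEval (k := k) x y B) = I := by
  rw [Ideal.comap_map_of_surjective _ (planeEval_surjective hgen B)]
  exact sup_eq_left.2 (hker.trans ((Ideal.span_singleton_le_iff_mem _).2 h))

/-- the quotient of the plane is the quotient of the base change -/
theorem exists_quotEquiv {n : ℕ} (hgen : Function.Surjective (MvPolynomial.aeval (R := k) ![x, y]))
    {B : Type u} [CommRing B] [Algebra k B]
    (hker : RingHom.ker (planeEval (k := k) x y B) ≤ Ideal.span {(Polynomial.X : Polynomial (Polynomial B)) ^ n})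
    {I : Ideal (Polynomial (Polynomial B))} (h : (Polynomial.X : Polynomial (Polynomial B)) ^ n ∈ I) :
    Nonempty ((Polynomial (Polynomial B) ⧸ I) ≃ₗ[B] ((B ⊗[k] R) ⧸ I.map (planeEval (k := k) x y B))) := by
  let π : Polynomial (Polynomial B) →ₐ[B] B ⊗[k] R :=
    { planeEval (k := k) x y B with commutes' := fun b => planeEval_CC x y b }
  refine ⟨(AlgEquiv.ofBijective (Ideal.quotientMapₐ (I.map (planeEval (k := k) x y B)) π Ideal.le_comap_map)
    ⟨Ideal.quotientMap_injective' (H := Ideal.le_comap_map) (comap_map_planeEval hgen hker h).le, ?_⟩).toLinearEquiv⟩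
  exact Ideal.quotientMap_surjective (H := Ideal.le_comap_map) (planeEval_surjective hgen B)

theorem suppAt_cell {B : Type u} [CommRing B] [Algebra k B] {n d μ : ℕ} {I : Ideal (Polynomial (Polynomial B))}
    {b : Fin d → Polynomial (Polynomial B)} {h : Fin μ → Polynomial (Polynomial B)} (hc : IsCell n I b h) :
    SuppAt ({x, y} : Set R) (I.map (planeEval (k := k) x y B)) := by
  have hY : (Polynomial.X : Polynomial (Polynomial B)) ∈ I.radical := ⟨n, hc.pow_mem⟩
  have hX : (Polynomial.C Polynomial.X : Polynomial (Polynomial B)) ∈ I.radical := by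
    obtain ⟨g, hg⟩ := hc.floor.2
    have := sub_mem (Ideal.le_radical hg) (Ideal.mul_mem_right g _ hY)
    rw [add_sub_cancel_right, map_pow] at this
    exact Ideal.radical_idem I ▸ (⟨_, this⟩ : _ ∈ I.radical.radical)
  intro g hg
  have key : ∀ p ∈ I.radical, planeEval (k := k) x y B p ∈ (I.map (planeEval (k := k) x y B)).radical :=
    fun p ⟨m, hm⟩ => ⟨m, by rw [← map_pow]; exact Ideal.mem_map_of_mem _ hm⟩
  rcases hg with rfl | rfl
  · simpa [planeEval] using key _ hX
  · simpa [planeEval] using key _ hY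

theorem nonempty_basis_cell {n d μ : ℕ} (hgen : Function.Surjective (MvPolynomial.aeval (R := k) ![x, y]))
    {B : Type u} [CommRing B] [Algebra k B]
    (hker : RingHom.ker (planeEval (k := k) x y B) ≤ Ideal.span {(Polynomial.X : Polynomial (Polynomial B)) ^ n})
    {I : Ideal (Polynomial (Polynomial B))} {b : Fin d → Polynomial (Polynomial B)}
    {h : Fin μ → Polynomial (Polynomial B)} (hc : IsCell n I b h) :
    Nonempty (Module.Basis (Fin d) B ((B ⊗[k] R) ⧸ I.map (planeEval (k := k) x y B))) := by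
  obtain ⟨e⟩ := exists_quotEquiv hgen hker hc.pow_mem
  exact ⟨(basisOfIsBasisMod hc.basis).map e⟩

theorem kerY_le {K : Type u} [Field K] {n d μ : ℕ} {I : Ideal (Polynomial (Polynomial K))}
    {b : Fin d → Polynomial (Polynomial K)} {h : Fin μ → Polynomial (Polynomial K)} (hc : IsCell n I b h) :
    μ ≤ d := by
  let L : (Fin μ → K) →ₗ[K] (Polynomial (Polynomial K) ⧸ I) :=
    Fintype.linearCombination K (fun i => Ideal.Quotient.mk I (h i))
  have hL : Function.Injective L := by
    intro w w' e'
    have hL' : ∀ w, L w = Ideal.Quotient.mk I (∑ i, CC (w i) * h i) := fun w => by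
      simp only [L, Fintype.linearCombination_apply, map_sum, map_mul]
      refine Finset.sum_congr rfl fun i _ => ?_
      show w i • Ideal.Quotient.mkₐ K I (h i) = _
      rw [← map_smul, Algebra.smul_def, map_mul]; rfl
    rw [hL', hL', Ideal.Quotient.eq] at e'
    refine (hc.kerY.2 (∑ i, CC (w i) * h i) ?_).unique (by simp) e'
    show _ ∈ colonY _
    rw [← coe_colonI]
    exact sum_mem fun l _ => Ideal.mul_mem_left _ _ (hc.kerY.1 l)
  haveI := Module.Finite.of_basis (basisOfIsBasisMod hc.basis)
  have := LinearMap.finrank_le_finrank_of_injective hL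
  rwa [Module.finrank_fin_fun, finrank_of_isBasisMod hc.basis] at this

theorem map_at {n e μ : ℕ} (c : PCell k n e μ) {K : Type u} [CommRing K] [Algebra k K] (v : Fin c.m → K) :
    (c.I.map (planeEval (k := k) x y (MvPolynomial (Fin c.m) k))).map
      (bcA R (MvPolynomial.aeval v)).toRingHom = (c.at v).map (planeEval (k := k) x y K) := by
  rw [Ideal.map_map, planeEval_natural, ← Ideal.map_map]; rfl

/-- the points of the cells -/
theorem existsUnique_cell {n d : ℕ} (T : Atlas k n)
    (hgen : Function.Surjective (MvPolynomial.aeval (R := k) ![x, y]))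
    {K : Type u} [Field K] [Algebra k K]
    (hker : RingHom.ker (planeEval (k := k) x y K) ≤ Ideal.span {(Polynomial.X : Polynomial (Polynomial K)) ^ n})
    (J' : Ideal (K ⊗[k] R)) (hrk : Module.finrank K ((K ⊗[k] R) ⧸ J') = d)
    (hsupp : SuppAt ({x, y} : Set R) J') (hyn : ((1 : K) ⊗ₜ[k] y) ^ n ∈ J') :
    ∃! q : Σ a : (Σ μ : Fin (d + 1), T.ι d μ.1), MvPolynomial (Fin (T.cell d a.1.1 a.2).m) k →ₐ[k] K,
      ((T.cell d q.1.1.1 q.1.2).I.map (planeEval (k := k) x y _)).map (bcA R q.2).toRingHom = J' := by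
  let J₂ := J'.comap (planeEval (k := k) x y K)
  have hY : (Polynomial.X : Polynomial (Polynomial K)) ^ n ∈ J₂ := by
    show planeEval (k := k) x y K _ ∈ J'
    simpa [planeEval] using hyn
  have hN : ∃ N : ℕ, Polynomial.C ((Polynomial.X : Polynomial K) ^ N) ∈ J₂ := by
    obtain ⟨N, hN⟩ := hsupp x (Or.inl rfl)
    refine ⟨N, ?_⟩
    show planeEval (k := k) x y K _ ∈ J'
    simpa [planeEval, Polynomial.eval₂_pow] using hN
  have hmapJ₂ : J₂.map (planeEval (k := k) x y K) = J' :=
    Ideal.map_comap_of_surjective _ (planeEval_surjective hgen K) J'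
  obtain ⟨e, μ, i, v, hv⟩ := T.exists_point K J₂ hY hN
  obtain ⟨b, h, hc⟩ := (T.cell e μ i).isCell_at v
  obtain ⟨eq⟩ := exists_quotEquiv hgen hker hY
  have h1 := finrank_of_isBasisMod hc.basis
  rw [hv, eq.finrank_eq, hmapJ₂, hrk] at h1
  subst h1
  let a₀ : Σ μ : Fin (d + 1), T.ι d μ.1 := ⟨⟨μ, Nat.lt_succ_of_le (kerY_le hc)⟩, i⟩
  refine ⟨⟨a₀, MvPolynomial.aeval v⟩, ?_, ?_⟩
  · exact (map_at (T.cell d μ i) v).trans (by rw [hv, hmapJ₂])
  · rintro ⟨⟨⟨μ', hμ'⟩, i'⟩, φ⟩ hφ
    obtain ⟨v', rfl⟩ : ∃ v', φ = MvPolynomial.aeval v' := ⟨_, MvPolynomial.aeval_unique φ⟩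
    have hv' : (T.cell d μ' i').at v' = J₂ := by
      obtain ⟨b', h', hc'⟩ := (T.cell d μ' i').isCell_at v'
      rw [← comap_map_planeEval hgen hker hc'.pow_mem, ← map_at]
      exact congrArg (Ideal.comap (planeEval (k := k) x y K)) hφ
    obtain rfl : μ' = μ := by
      obtain ⟨b', h', hc'⟩ := (T.cell d μ' i').isCell_at v'
      exact floor_unique hc'.floor (hv' ▸ hv ▸ hc.floor)
    have := T.unique K d μ' ⟨i', v'⟩ ⟨i, v⟩ (hv'.trans hv.symm)
    obtain ⟨rfl, h2⟩ := Sigma.mk.inj_iff.1 this
    rw [eq_of_heq h2]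

theorem cl_punctual_planar [Algebra.FiniteType k R] (n d : ℕ)
    (hgen : Function.Surjective (MvPolynomial.aeval (R := k) ![x, y]))
    (hker : ∀ (B : Type u) [CommRing B] [Algebra k B],
      RingHom.ker (planeEval (k := k) x y B) ≤ Ideal.span {(Polynomial.X : Polynomial (Polynomial B)) ^ n})
    (hyn : ∀ (K : Type u) [Field K] [Algebra k K] (J' : Ideal (K ⊗[k] R)),
      Module.Finite K ((K ⊗[k] R) ⧸ J') → Module.finrank K ((K ⊗[k] R) ⧸ J') = d →
        SuppAt ({x, y} : Set R) J' → ((1 : K) ⊗ₜ[k] y) ^ n ∈ J')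
    (H : Over (Spec (CommRingCat.of k))) (Z : HilbD.Obj (str k R) d H)
    (hZ : HilbD.IsUniversal (str k R) d H Z) [LocallyOfFiniteType H.hom] [QuasiCompact H.hom]
    (x₀ : Spec (CommRingCat.of R)) (hG : x₀.asIdeal = Ideal.span {x, y}) (hmax : x₀.asIdeal.IsMaximal)
    {HP : Scheme.{u}} (ι : HP ⟶ H.left) [IsClosedImmersion ι]
    (hι : Set.range ι = {h | InFibre (str k R) ({x₀} : Set ↥(Spec (CommRingCat.of R))) Z.1 h}) :
    K0Var.cl (ι ≫ H.hom) =
      ∑ μ ∈ Finset.range (d + 1), cellCount (K0Var.L (Spec (CommRingCat.of k))) n d μ := by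
  classical
  let T := atlas k n
  letI : ∀ a b, Fintype (T.ι a b) := T.fin
  have key := cl_punctual_eq_sum_cells d H Z hZ x₀ {x, y} hG hmax ι hι
    (α := Σ μ : Fin (d + 1), T.ι d μ.1)
    (fun a => MvPolynomial (Fin (T.cell d a.1.1 a.2).m) k)
    (fun a => (T.cell d a.1.1 a.2).I.map (planeEval (k := k) x y _))
  have hid : ∀ a : (Σ μ : Fin (d + 1), T.ι d μ.1), ∃ b h,
      IsCell n (d := d) (μ := a.1.1) (T.cell d a.1.1 a.2).I b h := fun a => by
    have h := (T.cell d a.1.1 a.2).cell _ (RingHom.id _)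
    simp only [mapP, Polynomial.mapRingHom_id, Ideal.map_id] at h
    exact ⟨_, _, h⟩
  rw [key ?_ ?_ ?_, Fintype.sum_sigma, ← Fin.sum_univ_eq_sum_range (fun μ => cellCount _ n d μ)]
  · refine Finset.sum_congr rfl fun μ _ => ?_
    rw [← T.count]
    exact Finset.sum_congr rfl fun i _ => clSpec_mvPolynomial _
  · intro a
    obtain ⟨b, h, hc⟩ := hid a
    exact nonempty_basis_cell hgen (hker _) hc
  · intro a
    obtain ⟨b, h, hc⟩ := hid a
    exact suppAt_cell hc
  · intro K _ _ J' hfin hrk hsupp
    exact existsUnique_cell T hgen (hker K) J' hrk hsupp (hyn K J' hfin hrk hsupp)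

end Planar

/-- an ideal containing the generators is maximal -/
theorem isMaximal_of_gen {R : Type u} [CommRing R] [Algebra k R] {x y : R}
    (hgen : Function.Surjective (MvPolynomial.aeval (R := k) ![x, y])) (I : Ideal R) (hI : I ≠ ⊤)
    (hx : x ∈ I) (hy : y ∈ I) : I.IsMaximal := by
  haveI : Nontrivial (R ⧸ I) := Ideal.Quotient.nontrivial_iff.2 hI
  have hsurj : Function.Surjective (algebraMap k (R ⧸ I)) := by
    intro z
    obtain ⟨r, rfl⟩ := Ideal.Quotient.mk_surjective z
    obtain ⟨p, rfl⟩ := hgen r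
    refine ⟨MvPolynomial.constantCoeff p, ?_⟩
    have : (algebraMap k (R ⧸ I)).comp MvPolynomial.constantCoeff =
        (Ideal.Quotient.mk I).comp (MvPolynomial.aeval (R := k) ![x, y]).toRingHom := by
      refine MvPolynomial.ringHom_ext (fun c => ?_) (fun i => ?_)
      · simp
      · fin_cases i <;> simp [Ideal.Quotient.eq_zero_iff_mem.2 hx, Ideal.Quotient.eq_zero_iff_mem.2 hy]
    exact RingHom.congr_fun this p
  refine Ideal.Quotient.maximal_of_isField I ?_
  exact (RingEquiv.ofBijective (algebraMap k (R ⧸ I)) ⟨(algebraMap k (R ⧸ I)).injective, hsurj⟩).toMulEquiv.symm.isField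
    (Field.toIsField k)

/-- the kernel of the evaluation from a one-sided inverse -/
theorem ker_planeEval {R : Type u} [CommRing R] [Algebra k R] {B : Type u} [CommRing B] [Algebra k B]
    {C : Type u} [CommRing C] [Algebra k C] (q : Polynomial (Polynomial B) →+* C)
    (hq : ∀ c : k, q (Planar.CC (algebraMap k B c)) = algebraMap k C c) (ψ : R →ₐ[k] C) (x y : R)
    (hx : ψ x = q (Polynomial.C Polynomial.X)) (hy : ψ y = q Polynomial.X) :
    RingHom.ker (planeEval (k := k) x y B) ≤ RingHom.ker q := by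
  let β : B →ₐ[k] C := { q.comp Planar.CC with commutes' := hq }
  let θ := Algebra.TensorProduct.lift β ψ (fun _ _ => Commute.all _ _)
  have h : θ.toRingHom.comp (planeEval (k := k) x y B) = q := by
    refine Polynomial.ringHom_ext (fun p => ?_) ?_
    · refine RingHom.congr_fun (?_ : ((θ.toRingHom.comp (planeEval (k := k) x y B)).comp Polynomial.C) =
        q.comp Polynomial.C) p
      refine Polynomial.ringHom_ext (fun b => ?_) ?_
      · simp [θ, β, planeEval, Planar.CC]
      · simp [θ, planeEval, hx]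
    · simp [θ, planeEval, hy]
  intro f hf
  rw [RingHom.mem_ker, ← RingHom.congr_fun h f, RingHom.comp_apply, RingHom.mem_ker.1 hf, map_zero]

set_option backward.isDefEq.respectTransparency true in
set_option backward.isDefEq.respectTransparency.types true in
/-- the case of a quotient of the plane -/
theorem ker_planeEval_quot {R : Type u} [CommRing R] [Algebra k R] {B : Type u} [CommRing B] [Algebra k B]
    (S : Ideal (Polynomial (Polynomial B))) (ψ : R →ₐ[k] Polynomial (Polynomial B) ⧸ S) (x y : R)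
    (hx : ψ x = Ideal.Quotient.mk S (Polynomial.C Polynomial.X)) (hy : ψ y = Ideal.Quotient.mk S Polynomial.X) :
    RingHom.ker (planeEval (k := k) x y B) ≤ S := by
  have hq : ∀ c : k, Ideal.Quotient.mk S (Planar.CC (algebraMap k B c)) =
      algebraMap k (Polynomial (Polynomial B) ⧸ S) c := fun c => by
    rw [← Ideal.Quotient.mk_algebraMap, Polynomial.algebraMap_apply, Polynomial.algebraMap_apply]
    rfl
  have h := @ker_planeEval k _ R _ _ B _ _ (Polynomial (Polynomial B) ⧸ S) inferInstance inferInstance (Ideal.Quotient.mk S) hq ψ x y hx hy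
  intro f hf
  rw [← Ideal.Quotient.eq_zero_iff_mem]
  exact (RingHom.mem_ker).1 (h hf)

/-- a nilpotent element of an algebra of dimension at most `n` has vanishing `n`-th power -/
theorem pow_mem_of_nilpotent_mod {K : Type u} [Field K] {A : Type u} [CommRing A] [Algebra K A] (J : Ideal A)
    {a : A} {n : ℕ} (hfin : Module.Finite K (A ⧸ J)) (ha : a ∈ J.radical)
    (hn : Module.finrank K (A ⧸ J) ≤ n) : a ^ n ∈ J := by
  obtain ⟨m, hm⟩ := ha
  rw [← Ideal.Quotient.eq_zero_iff_mem, map_pow] at hm ⊢
  set b := Ideal.Quotient.mk J a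
  set f := LinearMap.mulLeft K b
  have hf : IsNilpotent f := ⟨m, by rw [LinearMap.pow_mulLeft, hm, LinearMap.mulLeft_zero_eq_zero]⟩
  have hc : f ^ Module.finrank K (A ⧸ J) = 0 := by
    have h := LinearMap.aeval_self_charpoly f
    rw [hf.charpoly_eq_X_pow_finrank] at h
    simpa using h
  have : (b ^ Module.finrank K (A ⧸ J)) = 0 := by
    have := LinearMap.congr_fun hc 1
    simpa [f, LinearMap.pow_mulLeft] using this
  rw [← Nat.add_sub_cancel' hn, pow_add, this, zero_mul]

/-- truncations only see low coefficients -/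
theorem trunc_eq_one {S : Type*} [CommRing S] {A A' P : PowerSeries S} {D : ℕ} (h : A * P = 1)
    (hA : ∀ d ≤ D, PowerSeries.coeff d A' = PowerSeries.coeff d A) :
    PowerSeries.trunc (D + 1) (A' * P) = 1 := by
  refine Polynomial.ext fun e => ?_
  rw [PowerSeries.coeff_trunc, Polynomial.coeff_one]
  by_cases he : e < D + 1
  · rw [if_pos he, ← PowerSeries.coeff_one e, ← h, PowerSeries.coeff_mul, PowerSeries.coeff_mul]
    refine Finset.sum_congr rfl fun p hp => ?_
    have := Finset.HasAntidiagonal.mem_antidiagonal.1 hp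
    rw [hA p.1 (by omega)]
  · rw [if_neg he, if_neg (by omega)]

end Groth.Agent.HilbZeta12
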