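import Mathlib.Algebra.Polynomial.Div
import Mathlib.Algebra.Polynomial.Eval.Coeff
import Mathlib.RingTheory.Ideal.Maps
import Mathlib.Data.Fin.Tuple.Basic
import Mathlib.LinearAlgebra.Dimension.Constructions
import Mathlib.Tactic.LinearCombination

/-!
The inductive step of the cell decomposition of ideals of finite colength in two variables.

In `A[X][Y]` an ideal `I` containing a power of `Y` is built from `(I : Y)` and one further element
`X ^ μ + Y * g`.
-/

set_option autoImplicit false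
set_option linter.style.haveILetI false
set_option maxHeartbeats 800000

universe u v

open Polynomial

namespace Groth.Agent.HilbZeta12.Planar

variable {A : Type u} [CommRing A]

/-- constants of `A` in `A[X][Y]` -/
noncomputable abbrev CC : A →+* A[X][X] := (C : A[X] →+* A[X][X]).comp (C : A →+* A[X])

/-- `b` is a basis of `M` modulo `I` -/
def IsBasisMod {d : ℕ} (M : Set A[X][X]) (I : Ideal A[X][X]) (b : Fin d → A[X][X]) : Prop :=
  (∀ i, b i ∈ M) ∧ ∀ f ∈ M, ∃! c : Fin d → A, f - ∑ i, CC (c i) * b i ∈ I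

/-- `I + (Y) = (X ^ μ, Y)` -/
def Floor (I : Ideal A[X][X]) (μ : ℕ) : Prop :=
  (∀ f ∈ I, X ^ μ ∣ f.coeff 0) ∧ ∃ g, C (X ^ μ) + X * g ∈ I

/-- the colon ideal by `Y` -/
def colonY (I : Ideal A[X][X]) : Set A[X][X] := {f | X * f ∈ I}

/-- the invariants of a cell -/
structure IsCell (n : ℕ) {d μ : ℕ} (I : Ideal A[X][X]) (b : Fin d → A[X][X]) (h : Fin μ → A[X][X]) : Prop where
  pow_mem : (X : A[X][X]) ^ n ∈ I
  floor : Floor I μ
  basis : IsBasisMod Set.univ I b
  kerY : IsBasisMod (colonY I) I h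

theorem exists_eq_C_add_mul (f : A[X][X]) : ∃ v, f = C (f.coeff 0) + X * v :=
  ⟨f.divX, by rw [add_comm]; exact (X_mul_divX_add f).symm⟩

theorem X_cancel {a b : A[X][X]} (h : X * a = X * b) : a = b := by
  ext1 n
  have := congrArg (fun p : A[X][X] => p.coeff (n + 1)) h
  simpa [coeff_X_mul] using this

theorem existsUnique_low (μ : ℕ) (p : A[X]) :
    ∃! c : Fin μ → A, X ^ μ ∣ p - ∑ i : Fin μ, C (c i) * X ^ (i : ℕ) := by
  have hc : ∀ (c : Fin μ → A) (i : Fin μ), (∑ j : Fin μ, C (c j) * X ^ (j : ℕ)).coeff i = c i := fun c i => by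
    rw [finsetSum_coeff, Finset.sum_eq_single i]
    · simp
    · intro j _ hj
      rw [coeff_C_mul_X_pow, if_neg (fun e => hj (Fin.ext e.symm))]
    · simp
  refine ⟨fun i => p.coeff i, X_pow_dvd_iff.2 fun e he => ?_, fun c hd => funext fun i => ?_⟩
  · rw [coeff_sub, hc _ ⟨e, he⟩, sub_self]
  · have := X_pow_dvd_iff.1 hd i i.2
    rw [coeff_sub, hc] at this
    exact (sub_eq_zero.1 this).symm

theorem mem_step_iff (I : Ideal A[X][X]) (F f : A[X][X]) :
    f ∈ Ideal.span {F} ⊔ Ideal.span {X} * I ↔ ∃ a j, j ∈ I ∧ f = a * F + X * j := by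
  constructor
  · intro hf
    obtain ⟨y, hy, z, hz, rfl⟩ := Submodule.mem_sup.1 hf
    obtain ⟨a, rfl⟩ := Ideal.mem_span_singleton'.1 hy
    obtain ⟨j, hj, rfl⟩ := Ideal.mem_span_singleton_mul.1 hz
    exact ⟨a, j, hj, rfl⟩
  · rintro ⟨a, j, hj, rfl⟩
    exact add_mem (Ideal.mem_sup_left (Ideal.mul_mem_left _ _ (Ideal.subset_span rfl)))
      (Ideal.mem_sup_right (Ideal.mul_mem_mul (Ideal.subset_span rfl) hj))

/-- the colon of a stepped ideal -/
theorem colonY_step (I : Ideal A[X][X]) (μ₀ : ℕ) (g : A[X][X]) (hF : C (X ^ μ₀) + X * g ∈ I) :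
    colonY (Ideal.span {C (X ^ μ₀) + X * g} ⊔ Ideal.span {X} * I) = (I : Set A[X][X]) := by
  ext f
  show X * f ∈ Ideal.span {C (X ^ μ₀) + X * g} ⊔ Ideal.span {X} * I ↔ f ∈ I
  rw [mem_step_iff]
  constructor
  · rintro ⟨a, j, hj, e⟩
    have h0 : a.coeff 0 * X ^ μ₀ = 0 := by
      have := congrArg (fun p : A[X][X] => p.coeff 0) e
      simpa [mul_coeff_zero, -map_pow] using this.symm
    have ha0 : a.coeff 0 = 0 := (monic_X_pow μ₀).mul_left_eq_zero_iff.1 h0
    obtain ⟨v, hv⟩ := exists_eq_C_add_mul a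
    rw [ha0, map_zero, zero_add] at hv
    subst hv
    have : f = v * (C (X ^ μ₀) + X * g) + j := X_cancel (by linear_combination e)
    rw [this]
    exact add_mem (Ideal.mul_mem_left _ _ hF) hj
  · intro hf
    exact ⟨0, f, hf, by ring⟩

/-- **The inductive step.** -/
theorem isCell_step {n d₁ μ₁ δ : ℕ} {I : Ideal A[X][X]} {b : Fin d₁ → A[X][X]} {h : Fin μ₁ → A[X][X]}
    (hI : IsCell n I b h) (g₁ g : A[X][X]) (hg₁ : C (X ^ μ₁) + X * g₁ ∈ I)
    (hF : C (X ^ (δ + μ₁)) + X * g ∈ I) :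
    IsCell (n + 1) (Ideal.span {C (X ^ (δ + μ₁)) + X * g} ⊔ Ideal.span {X} * I)
      (Fin.append (fun a : Fin (δ + μ₁) => C (X ^ (a : ℕ))) (fun i => X * b i))
      (Fin.append (fun i : Fin δ => C (X ^ (i : ℕ)) * (C (X ^ μ₁) + X * g₁)) (fun l => X * h l)) := by
  set μ₀ := δ + μ₁ with hμ₀
  set F := C (X ^ μ₀) + X * g with hFdef
  set I' := Ideal.span {F} ⊔ Ideal.span {X} * I with hI'
  have hFI' : F ∈ I' := (mem_step_iff I F F).2 ⟨1, 0, zero_mem _, by ring⟩
  have hYI' : ∀ j ∈ I, X * j ∈ I' := fun j hj => (mem_step_iff I F _).2 ⟨0, j, hj, by ring⟩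
  have hsumC : ∀ {m : ℕ} (e : ℕ → ℕ) (c : Fin m → A),
      (∑ i : Fin m, CC (c i) * C (X ^ e i) : A[X][X]) = C (∑ i : Fin m, C (c i) * X ^ e i) := fun e c => by
    rw [map_sum]; exact Finset.sum_congr rfl fun i _ => by simp [CC]
  have hfl : Floor I' μ₀ := by
    refine ⟨fun f hf => ?_, g, hFI'⟩
    obtain ⟨a, j, -, rfl⟩ := (mem_step_iff I F f).1 hf
    simp [hFdef, mul_coeff_zero, -map_pow]
  refine ⟨?_, hfl, ⟨fun _ => trivial, fun f _ => ?_⟩, ⟨fun i => ?_, fun f hf => ?_⟩⟩
  · exact (mem_step_iff I F _).2 ⟨0, X ^ n, hI.pow_mem, by ring⟩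
  · -- basis
    obtain ⟨c, hc, hcu⟩ := existsUnique_low μ₀ (f.coeff 0)
    obtain ⟨w, hw⟩ := hc
    obtain ⟨v, hv⟩ := exists_eq_C_add_mul f
    obtain ⟨e, he, heu⟩ := hI.basis.2 (v - C w * g) trivial
    refine ⟨Fin.append c e, ?_, ?_⟩
    · show f - ∑ i, CC (Fin.append c e i) * Fin.append _ _ i ∈ I'
      rw [Fin.sum_univ_add]
      simp only [Fin.append_left, Fin.append_right]
      rw [hsumC (fun i => i) c, mem_step_iff]
      refine ⟨C w, v - C w * g - ∑ i, CC (e i) * b i, he, ?_⟩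
      have h1 : C (f.coeff 0) = C (∑ i : Fin μ₀, C (c i) * X ^ (i : ℕ)) + C (X ^ μ₀) * C w := by
        rw [← map_mul, ← map_add, ← hw]; congr 1; ring
      rw [mul_sub, mul_sub, Finset.mul_sum, hFdef]
      conv_lhs => rw [hv]
      rw [h1, show ∑ i, CC (e i) * (X * b i) = ∑ i, X * (CC (e i) * b i) from
        Finset.sum_congr rfl fun i _ => by ring]
      ring
    · intro ce hce
      obtain ⟨c', e', rfl⟩ : ∃ c' e', ce = Fin.append c' e' :=
        ⟨fun i => ce (Fin.castAdd _ i), fun i => ce (Fin.natAdd _ i), (Fin.append_castAdd_natAdd).symm⟩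
      replace hce : f - ∑ i, CC (Fin.append c' e' i) * Fin.append _ _ i ∈ I' := hce
      rw [Fin.sum_univ_add] at hce
      simp only [Fin.append_left, Fin.append_right] at hce
      rw [hsumC (fun i => i) c', mem_step_iff] at hce
      obtain ⟨a, j, hj, e1⟩ := hce
      have e0 : f.coeff 0 - ∑ i : Fin μ₀, C (c' i) * X ^ (i : ℕ) = a.coeff 0 * X ^ μ₀ := by
        have := congrArg (fun p : A[X][X] => p.coeff 0) e1
        simpa only [hFdef, coeff_sub, coeff_add, mul_coeff_zero, coeff_C_zero, coeff_X_zero, zero_mul, add_zero, mul_zero, finsetSum_coeff, Finset.sum_const_zero] using this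
      have hcc : c' = c := hcu c' ⟨a.coeff 0, by rw [e0, mul_comm]⟩
      subst hcc
      have hw' : a.coeff 0 = w := by
        have : (a.coeff 0 - w) * X ^ μ₀ = 0 := by rw [sub_mul, ← e0, hw]; ring
        exact sub_eq_zero.1 ((monic_X_pow μ₀).mul_left_eq_zero_iff.1 this)
      obtain ⟨u', hu'⟩ := exists_eq_C_add_mul a
      rw [hw'] at hu'
      have hfv : f = C (∑ i : Fin μ₀, C (c' i) * X ^ (i : ℕ)) + C (X ^ μ₀) * C w + X * v := by
        rw [← map_mul, ← map_add, ← hw]; conv_lhs => rw [hv]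
        congr 2; ring
      have : v - C w * g - ∑ i, CC (e' i) * b i = u' * F + j := by
        refine X_cancel ?_
        rw [show ∑ i, CC (e' i) * (X * b i) = X * ∑ i, CC (e' i) * b i by
          rw [Finset.mul_sum]; exact Finset.sum_congr rfl fun i _ => by ring, hu', hfv, hFdef] at e1
        rw [hFdef]
        linear_combination e1
      rw [heu e' (show _ ∈ I by rw [this]; exact add_mem (Ideal.mul_mem_left _ _ hF) hj)]
  · -- the new kernel elements
    show Fin.append _ _ i ∈ colonY I'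
    rw [hI', hFdef, colonY_step I μ₀ g hF]
    induction i using Fin.addCases with
    | left i => rw [Fin.append_left]; exact Ideal.mul_mem_left _ _ hg₁
    | right l => rw [Fin.append_right]; exact hI.kerY.1 l
  · rw [hI', hFdef, colonY_step I μ₀ g hF] at hf
    obtain ⟨u, hu⟩ := hI.floor.1 f hf
    obtain ⟨c, hc, hcu⟩ := existsUnique_low δ u
    obtain ⟨w, hw⟩ := hc
    set v := f - (∑ i : Fin δ, CC (c i) * (C (X ^ (i : ℕ)) * (C (X ^ μ₁) + X * g₁))) - C w * F with hv
    have hvI : v ∈ I := sub_mem (sub_mem hf (sum_mem fun i _ => Ideal.mul_mem_left _ _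
      (Ideal.mul_mem_left _ _ hg₁))) (Ideal.mul_mem_left _ _ hF)
    have hsum : ∀ c' : Fin δ → A, ∑ i : Fin δ, CC (c' i) * (C (X ^ (i : ℕ)) * (C (X ^ μ₁) + X * g₁)) =
        C (∑ i : Fin δ, C (c' i) * X ^ (i : ℕ)) * (C (X ^ μ₁) + X * g₁) := fun c' => by
      rw [← hsumC (fun i => i) c', Finset.sum_mul]
      exact Finset.sum_congr rfl fun i _ => by ring
    have hv0 : v.coeff 0 = 0 := by
      rw [hv, hsum]
      simp only [hFdef, coeff_sub, mul_coeff_zero, coeff_add, coeff_C_zero, mul_zero,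
        coeff_X_zero, zero_mul, add_zero]
      rw [hu, hμ₀, pow_add]
      linear_combination (X ^ μ₁) * hw
    obtain ⟨v', hv'⟩ := exists_eq_C_add_mul v
    rw [hv0, map_zero, zero_add] at hv'
    clear_value v
    obtain ⟨e, he, heu⟩ := hI.kerY.2 v' (show X * v' ∈ I from hv' ▸ hvI)
    refine ⟨Fin.append c e, ?_, ?_⟩
    · show f - ∑ i, CC (Fin.append c e i) * Fin.append _ _ i ∈ I'
      rw [Fin.sum_univ_add]
      simp only [Fin.append_left, Fin.append_right]
      rw [mem_step_iff]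
      refine ⟨C w, v' - ∑ i, CC (e i) * h i, he, ?_⟩
      rw [show ∑ i, CC (e i) * (X * h i) = X * ∑ i, CC (e i) * h i by
        rw [Finset.mul_sum]; exact Finset.sum_congr rfl fun i _ => by ring]
      linear_combination hv' - hv
    · intro ce hce
      obtain ⟨c', e', rfl⟩ : ∃ c' e', ce = Fin.append c' e' :=
        ⟨fun i => ce (Fin.castAdd _ i), fun i => ce (Fin.natAdd _ i), (Fin.append_castAdd_natAdd).symm⟩
      replace hce : f - ∑ i, CC (Fin.append c' e' i) * Fin.append _ _ i ∈ I' := hce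
      rw [Fin.sum_univ_add] at hce
      simp only [Fin.append_left, Fin.append_right] at hce
      rw [show ∑ i, CC (e' i) * (X * h i) = X * ∑ i, CC (e' i) * h i by
        rw [Finset.mul_sum]; exact Finset.sum_congr rfl fun i _ => by ring, hsum, mem_step_iff] at hce
      obtain ⟨a, j, hj, e1⟩ := hce
      have e0 : f.coeff 0 - (∑ i : Fin δ, C (c' i) * X ^ (i : ℕ)) * X ^ μ₁ = a.coeff 0 * X ^ μ₀ := by
        have := congrArg (fun p : A[X][X] => p.coeff 0) e1
        simpa only [hFdef, coeff_sub, coeff_add, mul_coeff_zero, coeff_C_zero, coeff_X_zero, zero_mul, add_zero, mul_zero] using this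
      have h9 : (u - ∑ i : Fin δ, C (c' i) * X ^ (i : ℕ) - a.coeff 0 * X ^ δ) * X ^ μ₁ = 0 := by
        rw [hu, hμ₀, pow_add] at e0
        linear_combination e0
      have h10 := (monic_X_pow μ₁).mul_left_eq_zero_iff.1 h9
      have hcc : c' = c := hcu c' ⟨a.coeff 0, by linear_combination h10⟩
      subst hcc
      have hw' : a.coeff 0 = w := by
        have : (a.coeff 0 - w) * X ^ δ = 0 := by linear_combination hw - h10
        exact sub_eq_zero.1 ((monic_X_pow δ).mul_left_eq_zero_iff.1 this)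
      obtain ⟨u', hu'⟩ := exists_eq_C_add_mul a
      rw [hw'] at hu'
      have : v' - ∑ i, CC (e' i) * h i = u' * F + j := by
        refine X_cancel ?_
        rw [hsum] at hv
        linear_combination e1 + F * hu' - hv' + hv
      rw [heu e' (show _ ∈ I by rw [this]; exact add_mem (Ideal.mul_mem_left _ _ hF) hj)]

end Groth.Agent.HilbZeta12.Planar
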