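import Groth.Agent.HilbZeta12.K0Strat
import Groth.Agent.SchBasics.Spread
import Mathlib.AlgebraicGeometry.FunctionField
import Mathlib.AlgebraicGeometry.Morphisms.Separated

/-!
A finite family of morphisms that is bijective on field-valued points computes the class of the target.
-/

set_option autoImplicit false
set_option linter.style.haveILetI false
set_option backward.isDefEq.respectTransparency false
set_option backward.isDefEq.respectTransparency.types false
set_option maxHeartbeats 1600000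

universe u

open CategoryTheory CategoryTheory.Limits AlgebraicGeometry TopologicalSpace

namespace Groth.Agent.HilbZeta12

/-- A morphism of finite type missing the generic point has image avoiding a nonempty open. -/
theorem exists_open_disjoint_range {P V : Scheme.{u}} [IsIntegral V] [NoetherianSpace P] (p : P ⟶ V)
    (h : ∀ z, p z ≠ genericPoint V) : ∃ U : V.Opens, genericPoint V ∈ U ∧ ∀ z, p z ∉ U := by
  have hfin := NoetherianSpace.finite_irreducibleComponents (α := P)
  let C : Set V := ⋃ s ∈ irreducibleComponents P, closure (p '' s)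
  have hC : IsClosed C := hfin.isClosed_biUnion fun _ _ => isClosed_closure
  refine ⟨⟨Cᶜ, hC.isOpen_compl⟩, ?_, fun z hz => hz ?_⟩
  · intro hη
    obtain ⟨s, hs, hη⟩ := Set.mem_iUnion₂.1 hη
    obtain ⟨ζ, hζ⟩ := QuasiSober.sober hs.1 (isClosed_of_mem_irreducibleComponents s hs)
    have hsub : closure (p '' s) ⊆ closure {p ζ} := by
      refine closure_minimal ?_ isClosed_closure
      rintro _ ⟨y, hy, rfl⟩
      exact (hζ.specializes hy).map p.continuous |>.mem_closure
    exact h ζ ((((genericPoint_spec V).specializes trivial).antisymm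
      (specializes_iff_mem_closure.2 (hsub hη))).eq).symm
  · exact Set.mem_iUnion₂.2 ⟨irreducibleComponent z, irreducibleComponent_mem_irreducibleComponents z,
      subset_closure ⟨z, mem_irreducibleComponent, rfl⟩⟩

variable {k : Type u} [Field k]

/-- **Classes from points.** A finite family of morphisms of finite type that is bijective on points with values
in every field computes the class of the target. -/
theorem cl_eq_sum_of_points {H : Scheme.{u}} (h : H ⟶ Spec (CommRingCat.of k)) [LocallyOfFiniteType h]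
    [QuasiCompact h] {α : Type*} [Fintype α] (W : α → Scheme.{u}) (g : ∀ a, W a ⟶ H)
    [∀ a, LocallyOfFiniteType (g a)] [∀ a, QuasiCompact (g a)] [∀ a, IsSeparated (g a)]
    (hpts : ∀ (K : Type u) [Field K] (x : Spec (CommRingCat.of K) ⟶ H),
      ∃! q : Σ a, Spec (CommRingCat.of K) ⟶ W a, q.2 ≫ g q.1 = x) :
    K0Var.cl h = ∑ a, K0Var.cl (g a ≫ h) := by
  classical
  haveI : IsLocallyNoetherian H := LocallyOfFiniteType.isLocallyNoetherian h
  haveI : CompactSpace H := QuasiCompact.compactSpace_of_compactSpace h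
  refine cl_eq_sum_of_generic h Finset.univ W g ?_
  intro V _ v _ _ _
  haveI : IsLocallyNoetherian V := LocallyOfFiniteType.isLocallyNoetherian v
  haveI : CompactSpace V := QuasiCompact.compactSpace_of_compactSpace v
  haveI : IsNoetherian V := {}
  let η := genericPoint V
  letI : Field (V.presheaf.stalk η) := inferInstanceAs (Field V.functionField)
  let x : Spec (CommRingCat.of (V.presheaf.stalk η)) ⟶ H := V.fromSpecStalk η ≫ v
  obtain ⟨⟨a₀, w⟩, hw, huniq⟩ := hpts (V.presheaf.stalk η) x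
  -- spread out the point
  let y : W a₀ := w (IsLocalRing.closedPoint (V.presheaf.stalk η))
  let φ : (W a₀).presheaf.stalk y ⟶ V.presheaf.stalk η := Scheme.stalkClosedPointTo (R := V.presheaf.stalk η) w
  have hφw : Spec.map φ ≫ (W a₀).fromSpecStalk y = w :=
    Scheme.Spec_stalkClosedPointTo_fromSpecStalk (R := V.presheaf.stalk η) w
  have e : v η = g a₀ y := by
    have := congr($hw (IsLocalRing.closedPoint (V.presheaf.stalk η)))
    simp only [x, Scheme.Hom.comp_apply] at this
    have hcl : V.fromSpecStalk η (IsLocalRing.closedPoint _) = η := V.fromSpecStalk_closedPoint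
    exact ((congrArg v hcl).symm.trans this.symm)
  haveI : LocallyOfFinitePresentation (g a₀) := inferInstance
  obtain ⟨U₁, hU₁, s₁, hs₁, hs₁g⟩ := SchBasics.spread_out v (g a₀) e φ (by
    apply Spec.map_injective
    rw [← cancel_mono (H.fromSpecStalk _)]
    rw [Spec.map_comp, Spec.map_comp, Category.assoc, Category.assoc, Scheme.SpecMap_stalkMap_fromSpecStalk,
      Scheme.SpecMap_stalkSpecializes_fromSpecStalk, Scheme.SpecMap_stalkMap_fromSpecStalk,
      reassoc_of% hφw, hw])
  -- the sections over the generic point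
  have hkey : ∀ (a : α) (z : ↥(pullback (U₁.ι ≫ v) (g a))),
      U₁.ι (pullback.fst (U₁.ι ≫ v) (g a) z) = η → a = a₀ ∧
        ∀ h : a₀ = a, z = (pullback.lift (𝟙 _) (s₁ ≫ eqToHom (by rw [h]))
          (by subst h; simp [hs₁g]) : U₁.toScheme ⟶ pullback (U₁.ι ≫ v) (g a)) ⟨η, hU₁⟩ := by
    intro a z hz
    let P : Scheme.{u} := pullback (U₁.ι ≫ v) (g a)
    let pf : P ⟶ U₁.toScheme := pullback.fst _ _
    let j : Spec (P.residueField z) ⟶ P := P.fromSpecResidueField z
    let L := P.residueField z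
    -- the point of `V` under `z` is generic, hence defined over the function field
    have hfac : ∃ c : Spec L ⟶ Spec (V.presheaf.stalk η), c ≫ V.fromSpecStalk η = j ≫ pf ≫ U₁.ι := by
      let q := j ≫ pf ≫ U₁.ι
      have hq : q (IsLocalRing.closedPoint L) = η := by
        simp only [q, Scheme.Hom.comp_apply, j]
        erw [Scheme.fromSpecResidueField_apply]
        exact hz
      refine ⟨Spec.map (V.presheaf.stalkSpecializes (Inseparable.of_eq hq).specializes ≫
        Scheme.stalkClosedPointTo (R := L) q), ?_⟩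
      rw [Spec.map_comp, Category.assoc, Scheme.SpecMap_stalkSpecializes_fromSpecStalk,
        Scheme.Spec_stalkClosedPointTo_fromSpecStalk]
    obtain ⟨c, hc⟩ := hfac
    obtain ⟨q₀, -, hu⟩ := hpts L (j ≫ pf ≫ U₁.ι ≫ v)
    have h1 := hu ⟨a₀, c ≫ w⟩ (by
      show (c ≫ w) ≫ g a₀ = _
      rw [Category.assoc, hw, reassoc_of% hc])
    have h2 := hu ⟨a, j ≫ pullback.snd (U₁.ι ≫ v) (g a)⟩ (by
      show (j ≫ pullback.snd (U₁.ι ≫ v) (g a)) ≫ g a = _
      rw [Category.assoc, ← pullback.condition])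
    have h3 := h2.trans h1.symm
    refine ⟨congrArg Sigma.fst h3, fun h => ?_⟩
    subst h
    have h4 : j ≫ pullback.snd (U₁.ι ≫ v) (g a₀) = c ≫ w := eq_of_heq (Sigma.mk.inj_iff.1 h3).2
    have h5 : j ≫ pullback.fst (U₁.ι ≫ v) (g a₀) = c ≫ U₁.fromSpecStalkOfMem η hU₁ := by
      rw [← cancel_mono U₁.ι, Category.assoc, Category.assoc, Scheme.Opens.fromSpecStalkOfMem_ι, hc]
    let σ : U₁.toScheme ⟶ pullback (U₁.ι ≫ v) (g a₀) :=
      pullback.lift (𝟙 _) (s₁ ≫ eqToHom rfl) (by simp [hs₁g])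
    have hj : j = (c ≫ U₁.fromSpecStalkOfMem η hU₁) ≫ σ := by
      refine pullback.hom_ext ?_ ?_
      · simp [σ, h5]
      · simp only [σ, Category.assoc, pullback.lift_snd, eqToHom_refl, Category.comp_id]
        rw [← hs₁, hφw, h4]
    have hz' : z = j (IsLocalRing.closedPoint L) := (Scheme.fromSpecResidueField_apply _ _).symm
    rw [hz', hj, Scheme.Hom.comp_apply]
    congr 1
    apply U₁.ι.isOpenEmbedding.injective
    have : U₁.ι ((c ≫ U₁.fromSpecStalkOfMem η hU₁) (IsLocalRing.closedPoint L)) =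
        U₁.ι (pullback.fst (U₁.ι ≫ v) (g a₀) z) := by
      rw [← h5]
      exact congrArg U₁.ι ((Scheme.Hom.comp_apply _ _ _).trans (congrArg (pullback.fst (U₁.ι ≫ v) (g a₀)) hz'.symm))
    rw [this, hz]
    rfl
  -- shrink
  haveI : IsLocallyNoetherian U₁.toScheme := inferInstance
  haveI hU₁c : CompactSpace U₁.toScheme := isCompact_iff_compactSpace.mp (NoetherianSpace.isCompact _)
  haveI : IsIntegral U₁.toScheme := by
    haveI : Nonempty U₁.toScheme := ⟨⟨η, hU₁⟩⟩
    exact isIntegral_of_isOpenImmersion U₁.ι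
  have hgen : genericPoint U₁.toScheme = ⟨η, hU₁⟩ :=
    U₁.ι.isOpenEmbedding.injective (genericPoint_eq_of_isOpenImmersion U₁.ι)
  have hP : ∀ a, IsNoetherian (pullback (U₁.ι ≫ v) (g a) : Scheme.{u}) := fun a => by
    haveI : IsLocallyNoetherian (pullback (U₁.ι ≫ v) (g a) : Scheme.{u}) :=
      LocallyOfFiniteType.isLocallyNoetherian (pullback.fst (U₁.ι ≫ v) (g a))
    haveI : CompactSpace ↥(pullback (U₁.ι ≫ v) (g a)) :=
      QuasiCompact.compactSpace_of_compactSpace (pullback.fst (U₁.ι ≫ v) (g a))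
    exact {}
  let σ : U₁.toScheme ⟶ pullback (U₁.ι ≫ v) (g a₀) :=
    pullback.lift (𝟙 _) (s₁ ≫ eqToHom rfl) (by simp [hs₁g])
  haveI : IsClosedImmersion σ := by
    haveI : IsClosedImmersion (σ ≫ pullback.fst (U₁.ι ≫ v) (g a₀)) := by
      simp [σ]; infer_instance
    exact IsClosedImmersion.of_comp σ (pullback.fst (U₁.ι ≫ v) (g a₀))
  have hbad : ∀ a, ∃ U : U₁.toScheme.Opens, genericPoint U₁.toScheme ∈ U ∧
      ∀ z : ↥(pullback (U₁.ι ≫ v) (g a)), pullback.fst (U₁.ι ≫ v) (g a) z ∈ U →
        ∃ h : a₀ = a, z ∈ Set.range (pullback.lift (𝟙 _) (s₁ ≫ eqToHom (by rw [h]))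
          (by subst h; simp [hs₁g]) : U₁.toScheme ⟶ pullback (U₁.ι ≫ v) (g a)) := by
    intro a
    haveI := hP a
    by_cases ha : a₀ = a
    · subst ha
      let O : (pullback (U₁.ι ≫ v) (g a₀) : Scheme.{u}).Opens :=
        ⟨(Set.range σ)ᶜ, σ.isClosedEmbedding.isClosed_range.isOpen_compl⟩
      haveI : NoetherianSpace O.toScheme := NoetherianSpace.set _
      obtain ⟨U, hU, hU'⟩ := exists_open_disjoint_range (O.ι ≫ pullback.fst (U₁.ι ≫ v) (g a₀)) (fun z hz => by
        rw [Scheme.Hom.comp_apply, hgen] at hz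
        refine z.2 ⟨⟨η, hU₁⟩, ?_⟩
        exact ((hkey a₀ z.1 (congrArg U₁.ι hz)).2 rfl).symm)
      refine ⟨U, hU, fun z hz => ⟨rfl, ?_⟩⟩
      by_contra hn
      exact hU' ⟨z, hn⟩ (by rwa [Scheme.Hom.comp_apply])
    · obtain ⟨U, hU, hU'⟩ := exists_open_disjoint_range (pullback.fst (U₁.ι ≫ v) (g a)) (fun z hz => by
        rw [hgen] at hz
        exact ha ((hkey a z (congrArg U₁.ι hz)).1).symm)
      exact ⟨U, hU, fun z hz => absurd hz (hU' z)⟩
  choose U₂ hU₂g hU₂ using hbad
  let U₀ : U₁.toScheme.Opens := Finset.univ.inf U₂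
  let U : V.Opens := U₁.ι ''ᵁ U₀
  refine ⟨U, inferInstance, ⟨η, ⟨genericPoint U₁.toScheme, SchBasics.mem_finsetInf _ _ (fun a _ => hU₂g a),
    congrArg U₁.ι hgen⟩⟩, ?_⟩
  have hUle : U ≤ U₁ := by rintro _ ⟨z, -, rfl⟩; exact z.2
  let r : U.toScheme ⟶ U₁.toScheme := V.homOfLE hUle
  have hr : r ≫ U₁.ι = U.ι := V.homOfLE_ι hUle
  have hmem : ∀ a (z : ↥(pullback (U.ι ≫ v) (g a))), r (pullback.fst (U.ι ≫ v) (g a) z) ∈ U₂ a := by
    intro a z
    obtain ⟨t, ht, ht'⟩ := (pullback.fst (U.ι ≫ v) (g a) z).2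
    rw [show r (pullback.fst (U.ι ≫ v) (g a) z) = t from U₁.ι.isOpenEmbedding.injective (by
      rw [← Scheme.Hom.comp_apply, hr]; exact ht'.symm)]
    exact Finset.inf_le (f := U₂) (Finset.mem_univ a) ht
  let m : ∀ a, pullback (U.ι ≫ v) (g a) ⟶ pullback (U₁.ι ≫ v) (g a) := fun a =>
    pullback.map _ _ _ _ r (𝟙 _) (𝟙 _) (by simp [reassoc_of% hr]) (by simp)
  rw [Finset.sum_eq_single a₀]
  · let s : U.toScheme ⟶ pullback (U.ι ≫ v) (g a₀) :=
      pullback.lift (𝟙 _) (r ≫ s₁) (by simp [hs₁g, reassoc_of% hr])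
    haveI : IsClosedImmersion s := by
      haveI : IsClosedImmersion (s ≫ pullback.fst (U.ι ≫ v) (g a₀)) := by
        simp [s]; infer_instance
      exact IsClosedImmersion.of_comp s (pullback.fst (U.ι ≫ v) (g a₀))
    have hsm : s ≫ m a₀ = r ≫ σ := by
      apply pullback.hom_ext <;> simp [s, m, σ] <;> exact Category.id_comp _
    haveI : Surjective s := ⟨fun z => by
      obtain ⟨heq, t, ht⟩ := hU₂ a₀ (m a₀ z) (by
        have : pullback.fst (U₁.ι ≫ v) (g a₀) (m a₀ z) = r (pullback.fst (U.ι ≫ v) (g a₀) z) := by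
          rw [← Scheme.Hom.comp_apply, ← Scheme.Hom.comp_apply]; simp [m]
        rw [this]; exact hmem a₀ z)
      refine ⟨pullback.fst (U.ι ≫ v) (g a₀) z, ?_⟩
      haveI : IsOpenImmersion (m a₀) :=
        MorphismProperty.pullbackMap (P := @IsOpenImmersion) inferInstance inferInstance
          (by simp [reassoc_of% hr]) (by simp)
      apply (m a₀).isOpenEmbedding.injective
      rw [← Scheme.Hom.comp_apply, hsm, Scheme.Hom.comp_apply]
      have : t = r (pullback.fst (U.ι ≫ v) (g a₀) z) := by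
        have := congrArg (pullback.fst (U₁.ι ≫ v) (g a₀)) ht
        rw [← Scheme.Hom.comp_apply, ← Scheme.Hom.comp_apply] at this
        simpa [m] using this
      rw [← this]
      exact ht⟩
    haveI : IsLocallyNoetherian U.toScheme := inferInstance
    have h0 := K0Var.cl_scissor (pullback.fst (U.ι ≫ v) (g a₀) ≫ (U.ι ≫ v) ≫ h) s
      (Scheme.emptyTo _) (by rw [s.surjective.range_eq, Set.range_eq_empty (Scheme.emptyTo _)]; simp)
    rw [h0, K0Var.cl_eq_gen_cl (Scheme.emptyTo _ ≫ _), K0Var.Gen.cl_eq_zero_of_isEmpty, add_zero]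
    exact K0Var.cl_congr _ _ (Iso.refl _) (by simp [s]; exact (Category.id_comp _).symm)
  · intro a _ ha
    haveI : IsEmpty ↥(pullback (U.ι ≫ v) (g a)) := ⟨fun z => by
      obtain ⟨e', -⟩ := hU₂ a (m a z) (by
        have : pullback.fst (U₁.ι ≫ v) (g a) (m a z) = r (pullback.fst (U.ι ≫ v) (g a) z) := by
          rw [← Scheme.Hom.comp_apply, ← Scheme.Hom.comp_apply]; simp [m]
        rw [this]; exact hmem a z)
      exact ha e'.symm⟩
    rw [K0Var.cl_eq_gen_cl, K0Var.Gen.cl_eq_zero_of_isEmpty]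
  · exact fun h => absurd (Finset.mem_univ _) h

end Groth.Agent.HilbZeta12
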